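import Groth.Prelude.Def_Biext
import Mathlib.CategoryTheory.Sites.IsSheafFor

/-!
# Unit sections and inverses in biextensions
-/

set_option autoImplicit false

universe u

open CategoryTheory Opposite

namespace Groth.Agent.BiextLib

variable {C : Type (u + 1)} [Category.{u} C] {J : GrothendieckTopology C}

section Sheaves

variable (E : Sheaf J (Type (u + 1)))

theorem isSheafT : Presieve.IsSheaf J E.obj := (isSheaf_iff_isSheaf_of_type _ _).1 E.property

theorem map_map {T T' T'' : C} (f : T' ⟶ T) (g : T'' ⟶ T') (x : E.obj.obj (op T)) :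
    E.obj.map g.op (E.obj.map f.op x) = E.obj.map (g ≫ f).op x := by
  rw [op_comp, E.obj.map_comp]
  rfl

theorem map_id' {T : C} (x : E.obj.obj (op T)) : E.obj.map (𝟙 T).op x = x := by
  rw [op_id, E.obj.map_id]
  rfl

theorem ext_of_cover {T : C} {R : Sieve T} (hR : R ∈ J T) {x y : E.obj.obj (op T)}
    (h : ∀ ⦃T' : C⦄ (k : T' ⟶ T), R k → E.obj.map k.op x = E.obj.map k.op y) : x = y :=
  (isSheafT E R hR).isSeparatedFor.ext fun _ k hk => h k hk

/-- Sections with a property stable under restriction and determining them can be glued. -/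
theorem exists_glue {T : C} (Pr : ∀ T' : C, (T' ⟶ T) → E.obj.obj (op T') → Prop)
    (hres : ∀ {T' T'' : C} (k : T'' ⟶ T') (h : T' ⟶ T) (x : E.obj.obj (op T')), Pr T' h x →
      Pr T'' (k ≫ h) (E.obj.map k.op x))
    (huniq : ∀ (T' : C) (h : T' ⟶ T) (x y : E.obj.obj (op T')), Pr T' h x → Pr T' h y → x = y)
    {R : Sieve T} (hR : R ∈ J T) (hloc : ∀ ⦃T' : C⦄ (h : T' ⟶ T), R h → ∃ x, Pr T' h x) :
    ∃ x : E.obj.obj (op T), ∀ ⦃T' : C⦄ (h : T' ⟶ T), R h → Pr T' h (E.obj.map h.op x) := by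
  choose x hx using hloc
  obtain ⟨s, hs, -⟩ := isSheafT E R hR (fun T' h hh => x h hh) (by
    intro T₁ T₂ Z g₁ g₂ k₁ k₂ h₁ h₂ e
    refine huniq Z (g₁ ≫ k₁) _ _ (hres g₁ k₁ _ (hx k₁ h₁)) ?_
    rw [e]
    exact hres g₂ k₂ _ (hx k₂ h₂))
  exact ⟨s, fun T' h hh => (hs h hh).symm ▸ hx h hh⟩

end Sheaves

theorem ab_map_map (G : Sheaf J AddCommGrpCat.{u + 1}) {T T' T'' : C} (f : T' ⟶ T) (g : T'' ⟶ T')
    (v : G.obj.obj (op T)) : G.obj.map g.op (G.obj.map f.op v) = G.obj.map (g ≫ f).op v := by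
  rw [op_comp, G.obj.map_comp, ConcreteCategory.comp_apply]

theorem ab_map_id (G : Sheaf J AddCommGrpCat.{u + 1}) {T : C} (v : G.obj.obj (op T)) :
    G.obj.map (𝟙 T).op v = v := by
  rw [op_id, G.obj.map_id]
  rfl

theorem ab_ext_of_cover (G : Sheaf J AddCommGrpCat.{u + 1}) {T : C} {R : Sieve T} (hR : R ∈ J T)
    {x y : G.obj.obj (op T)} (h : ∀ ⦃T' : C⦄ (k : T' ⟶ T), R k → G.obj.map k.op x = G.obj.map k.op y) : x = y :=
  ext_of_cover ((sheafCompose J (forget AddCommGrpCat.{u + 1})).obj G) hR h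

variable {P Q G : Sheaf J AddCommGrpCat.{u + 1}} (B : Biext J P Q G)

theorem add₁_congr (T : C) {x x' z z' : B.E.obj.obj (op T)} (hx : x = x') (hz : z = z')
    (h : B.πQ T x = B.πQ T z) : B.add₁ T x z h = B.add₁ T x' z' (hx ▸ hz ▸ h) := by
  subst hx; subst hz; rfl

theorem add₂_congr (T : C) {x x' z z' : B.E.obj.obj (op T)} (hx : x = x') (hz : z = z')
    (h : B.πP T x = B.πP T z) : B.add₂ T x z h = B.add₂ T x' z' (hx ▸ hz ▸ h) := by
  subst hx; subst hz; rfl

theorem act_inj (T : C) {g g' : G.obj.obj (op T)} {x : B.E.obj.obj (op T)}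
    (h : B.act T g x = B.act T g' x) : g = g' :=
  (B.existsUnique_act T x (B.act T g' x) (B.πP_act T g' x).symm (B.πQ_act T g' x).symm).unique h rfl

theorem act_eq_self (T : C) {g : G.obj.obj (op T)} {x : B.E.obj.obj (op T)} (h : B.act T g x = x) : g = 0 :=
  act_inj B T (h.trans (B.zero_act T x).symm)

theorem exists_act (T : C) (x y : B.E.obj.obj (op T)) (hP : B.πP T x = B.πP T y) (hQ : B.πQ T x = B.πQ T y) :
    ∃ g, B.act T g x = y := (B.existsUnique_act T x y hP hQ).exists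

theorem add₂_act_right (T : C) (g : G.obj.obj (op T)) (x y : B.E.obj.obj (op T)) (h : B.πP T x = B.πP T y) :
    B.add₂ T x (B.act T g y) (h.trans (B.πP_act T g y).symm) = B.act T g (B.add₂ T x y h) := by
  rw [B.add₂_comm T x (B.act T g y), B.add₂_act T g y x h.symm, B.add₂_comm T y x h.symm]

theorem add₁_act_right (T : C) (g : G.obj.obj (op T)) (x y : B.E.obj.obj (op T)) (h : B.πQ T x = B.πQ T y) :
    B.add₁ T x (B.act T g y) (h.trans (B.πQ_act T g y).symm) = B.act T g (B.add₁ T x y h) := by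
  rw [B.add₁_comm T x (B.act T g y), B.add₁_act T g y x h.symm, B.add₁_comm T y x h.symm]

theorem add₂_cancel_left (T : C) {x y y' : B.E.obj.obj (op T)} (h : B.πP T x = B.πP T y) (h' : B.πP T x = B.πP T y')
    (e : B.add₂ T x y h = B.add₂ T x y' h') : y = y' := by
  have hQ : B.πQ T y = B.πQ T y' := add_left_cancel
    ((B.πQ_add₂ T x y h).symm.trans ((congrArg (B.πQ T) e).trans (B.πQ_add₂ T x y' h')))
  obtain ⟨g, rfl⟩ := exists_act B T y y' (h.symm.trans h') hQ
  rw [add₂_act_right B T g x y h] at e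
  rw [act_eq_self B T e.symm, B.zero_act]

/-- The flipped biextension. -/
def flip : Biext J Q P G where
  E := B.E
  πP := B.πQ
  πQ := B.πP
  πP_map := B.πQ_map
  πQ_map := B.πP_map
  act := B.act
  act_map := B.act_map
  πP_act := B.πQ_act
  πQ_act := B.πP_act
  zero_act := B.zero_act
  add_act := B.add_act
  existsUnique_act T x y h h' := B.existsUnique_act T x y h' h
  locallySurjective T q p := by
    obtain ⟨R, hR, h⟩ := B.locallySurjective T p q
    exact ⟨R, hR, fun T' f hf => (h f hf).imp fun x hx => ⟨hx.2, hx.1⟩⟩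
  add₁ := B.add₂
  πP_add₁ := B.πQ_add₂
  πQ_add₁ := B.πP_add₂
  add₁_map := B.add₂_map
  add₁_comm := B.add₂_comm
  add₁_assoc := B.add₂_assoc
  add₁_act := B.add₂_act
  add₂ := B.add₁
  πP_add₂ := B.πQ_add₁
  πQ_add₂ := B.πP_add₁
  add₂_map := B.add₁_map
  add₂_comm := B.add₁_comm
  add₂_assoc := B.add₁_assoc
  add₂_act := B.add₁_act
  compat T x y z t hxy hzt hxz hyt := (B.compat T x z y t hxz hyt hxy hzt).symm

/-- A unit section of the second law above `p`. -/
structure IsUnit₂ (T : C) (p : P.obj.obj (op T)) (e : B.E.obj.obj (op T)) : Prop where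
  proj : B.πP T e = p
  idem : B.add₂ T e e rfl = e

theorem IsUnit₂.πQ_eq {T : C} {p : P.obj.obj (op T)} {e : B.E.obj.obj (op T)} (h : IsUnit₂ B T p e) :
    B.πQ T e = 0 := by
  have := (B.πQ_add₂ T e e rfl).symm.trans (congrArg (B.πQ T) h.idem)
  exact add_eq_left.1 this

theorem IsUnit₂.res {T T' : C} (k : T' ⟶ T) {p : P.obj.obj (op T)} {e : B.E.obj.obj (op T)} (h : IsUnit₂ B T p e) :
    IsUnit₂ B T' (P.obj.map k.op p) (B.E.obj.map k.op e) :=
  ⟨by rw [B.πP_map, h.proj], (B.add₂_map k e e rfl).symm.trans (congrArg (B.E.obj.map k.op) h.idem)⟩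

theorem IsUnit₂.unique {T : C} {p : P.obj.obj (op T)} {e e' : B.E.obj.obj (op T)} (h : IsUnit₂ B T p e)
    (h' : IsUnit₂ B T p e') : e = e' := by
  obtain ⟨g, rfl⟩ := exists_act B T e e' (h.proj.trans h'.proj.symm) (h.πQ_eq.trans h'.πQ_eq.symm)
  have key : B.add₂ T (B.act T g e) (B.act T g e) rfl = B.act T g (B.act T g e) := by
    rw [B.add₂_act T g e (B.act T g e) (B.πP_act T g e).symm]
    exact congrArg (B.act T g) ((add₂_act_right B T g e e rfl).trans (congrArg (B.act T g) h.idem))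
  have h0 : g = 0 := act_eq_self B T (key.symm.trans h'.idem)
  rw [h0, B.zero_act]

theorem exists_unit₂ (T : C) (p : P.obj.obj (op T)) : ∃ e, IsUnit₂ B T p e := by
  obtain ⟨R, hR, hloc⟩ := B.locallySurjective T p 0
  obtain ⟨e, he⟩ := exists_glue B.E (fun T' h e => IsUnit₂ B T' (P.obj.map h.op p) e)
    (fun k h x hx => by
      have := hx.res B k
      rwa [ab_map_map] at this)
    (fun _ _ _ _ hx hy => hx.unique B hy) hR (fun T' f hf => by
      obtain ⟨x, hxP, hxQ⟩ := hloc f hf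
      rw [map_zero] at hxQ
      obtain ⟨g, hg⟩ := exists_act B T' x (B.add₂ T' x x rfl) (B.πP_add₂ T' x x rfl).symm
        (by rw [B.πQ_add₂, hxQ, add_zero])
      refine ⟨B.act T' (-g) x, (B.πP_act T' _ x).trans hxP, ?_⟩
      rw [B.add₂_act T' (-g) x (B.act T' (-g) x) (B.πP_act T' _ x).symm, add₂_act_right B T' (-g) x x rfl,
        ← hg, ← B.add_act T' (-g) g, neg_add_cancel, B.zero_act])
  refine ⟨e, ?_, ext_of_cover B.E hR fun T' k hk => ?_⟩
  · exact ab_ext_of_cover P hR fun T' k hk => by rw [← B.πP_map, (he k hk).proj]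
  · rw [B.add₂_map]
    exact (he k hk).idem

/-- The unit section of the second law. -/
noncomputable def unit₂ (T : C) (p : P.obj.obj (op T)) : B.E.obj.obj (op T) := (exists_unit₂ B T p).choose

theorem unit₂_spec (T : C) (p : P.obj.obj (op T)) : IsUnit₂ B T p (unit₂ B T p) :=
  (exists_unit₂ B T p).choose_spec

theorem πP_unit₂ (T : C) (p : P.obj.obj (op T)) : B.πP T (unit₂ B T p) = p := (unit₂_spec B T p).proj

theorem πQ_unit₂ (T : C) (p : P.obj.obj (op T)) : B.πQ T (unit₂ B T p) = 0 := (unit₂_spec B T p).πQ_eq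

theorem unit₂_map {T T' : C} (k : T' ⟶ T) (p : P.obj.obj (op T)) :
    B.E.obj.map k.op (unit₂ B T p) = unit₂ B T' (P.obj.map k.op p) :=
  ((unit₂_spec B T p).res B k).unique B (unit₂_spec B T' _)

theorem add₂_unit₂ (T : C) (x : B.E.obj.obj (op T)) :
    B.add₂ T x (unit₂ B T (B.πP T x)) (πP_unit₂ B T _).symm = x := by
  have h : B.πP T x = B.πP T (unit₂ B T (B.πP T x)) := (πP_unit₂ B T _).symm
  obtain ⟨g, hg⟩ := exists_act B T x (B.add₂ T x (unit₂ B T (B.πP T x)) h) (B.πP_add₂ T _ _ h).symm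
    (by rw [B.πQ_add₂, πQ_unit₂, add_zero])
  have h2 : B.add₂ T (B.add₂ T x (unit₂ B T (B.πP T x)) h) (unit₂ B T (B.πP T x)) ((B.πP_add₂ T _ _ h).trans h) =
      B.add₂ T x (unit₂ B T (B.πP T x)) h :=
    (B.add₂_assoc T x (unit₂ B T (B.πP T x)) (unit₂ B T (B.πP T x)) h rfl).trans
      (add₂_congr B T rfl (unit₂_spec B T _).idem _)
  have h3 := (add₂_congr B T hg rfl ((B.πP_act T g x).trans h)).trans h2
  rw [B.add₂_act T g x (unit₂ B T (B.πP T x)) h] at h3
  rw [← hg, act_eq_self B T h3, B.zero_act]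

theorem add₁_unit₂ (T : C) (p p' : P.obj.obj (op T)) :
    B.add₁ T (unit₂ B T p) (unit₂ B T p') ((πQ_unit₂ B T p).trans (πQ_unit₂ B T p').symm) =
      unit₂ B T (p + p') := by
  refine IsUnit₂.unique B ⟨by rw [B.πP_add₁, πP_unit₂, πP_unit₂], ?_⟩ (unit₂_spec B T _)
  have h : B.πQ T (unit₂ B T p) = B.πQ T (unit₂ B T p') := (πQ_unit₂ B T p).trans (πQ_unit₂ B T p').symm
  refine (B.compat T (unit₂ B T p) (unit₂ B T p) (unit₂ B T p') (unit₂ B T p') rfl rfl h h).symm.trans ?_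
  exact add₁_congr B T (unit₂_spec B T p).idem (unit₂_spec B T p').idem _

theorem exists_neg₂ (T : C) (x : B.E.obj.obj (op T)) :
    ∃ (y : B.E.obj.obj (op T)) (h : B.πP T x = B.πP T y), B.add₂ T x y h = unit₂ B T (B.πP T x) := by
  obtain ⟨R, hR, hloc⟩ := B.locallySurjective T (B.πP T x) (-B.πQ T x)
  obtain ⟨y, hy⟩ := exists_glue B.E (fun T' h y => ∃ e : B.πP T' (B.E.obj.map h.op x) = B.πP T' y,
      B.add₂ T' (B.E.obj.map h.op x) y e = unit₂ B T' (P.obj.map h.op (B.πP T x)))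
    (fun {T' T''} k h y hy => by
      obtain ⟨e, hy⟩ := hy
      refine ⟨by rw [← map_map B.E h k, B.πP_map, B.πP_map k y, e], ?_⟩
      refine (add₂_congr B T'' (map_map B.E h k x).symm rfl _).trans ?_
      rw [← B.add₂_map k _ _ e, hy, unit₂_map, ab_map_map])
    (fun T' h y y' hy hy' => add₂_cancel_left B T' hy.1 hy'.1 (hy.2.trans hy'.2.symm)) hR
    (fun T' f hf => by
      obtain ⟨z, hzP, hzQ⟩ := hloc f hf
      have e : B.πP T' (B.E.obj.map f.op x) = B.πP T' z := by rw [B.πP_map, hzP]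
      obtain ⟨g, hg⟩ := exists_act B T' (B.add₂ T' (B.E.obj.map f.op x) z e) (unit₂ B T' (P.obj.map f.op (B.πP T x)))
        (by rw [B.πP_add₂, πP_unit₂, B.πP_map]) (by rw [B.πQ_add₂, πQ_unit₂, B.πQ_map, hzQ, map_neg, add_neg_cancel])
      exact ⟨B.act T' g z, e.trans (B.πP_act T' g z).symm, (add₂_act_right B T' g _ _ e).trans hg⟩)
  have hP : B.πP T x = B.πP T y := ab_ext_of_cover P hR fun T' k hk => by
    rw [← B.πP_map, ← B.πP_map, (hy k hk).1]
  refine ⟨y, hP, ext_of_cover B.E hR fun T' k hk => ?_⟩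
  rw [B.add₂_map, unit₂_map]
  exact (hy k hk).2

/-- The inverse for the second law. -/
noncomputable def neg₂ (T : C) (x : B.E.obj.obj (op T)) : B.E.obj.obj (op T) := (exists_neg₂ B T x).choose

theorem πP_neg₂ (T : C) (x : B.E.obj.obj (op T)) : B.πP T (neg₂ B T x) = B.πP T x :=
  (exists_neg₂ B T x).choose_spec.1.symm

theorem add₂_neg₂ (T : C) (x : B.E.obj.obj (op T)) :
    B.add₂ T x (neg₂ B T x) (πP_neg₂ B T x).symm = unit₂ B T (B.πP T x) :=
  (exists_neg₂ B T x).choose_spec.2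

theorem πQ_neg₂ (T : C) (x : B.E.obj.obj (op T)) : B.πQ T (neg₂ B T x) = -B.πQ T x :=
  eq_neg_of_add_eq_zero_right ((B.πQ_add₂ T x _ (πP_neg₂ B T x).symm).symm.trans
    ((congrArg (B.πQ T) (add₂_neg₂ B T x)).trans (πQ_unit₂ B T _)))

theorem neg₂_map {T T' : C} (k : T' ⟶ T) (x : B.E.obj.obj (op T)) :
    B.E.obj.map k.op (neg₂ B T x) = neg₂ B T' (B.E.obj.map k.op x) := by
  have e : B.πP T' (B.E.obj.map k.op x) = B.πP T' (B.E.obj.map k.op (neg₂ B T x)) := by
    rw [B.πP_map, B.πP_map, πP_neg₂]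
  refine add₂_cancel_left B T' e (πP_neg₂ B T' _).symm ?_
  rw [add₂_neg₂, ← B.add₂_map k x (neg₂ B T x) (πP_neg₂ B T x).symm, add₂_neg₂, unit₂_map, B.πP_map]

end Groth.Agent.BiextLib
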