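import Groth.Agent.BiextLib.Splittings
import Mathlib.CategoryTheory.Sites.EpiMono

/-!
# Splittings descend along isogenies of divisible groups
-/

set_option autoImplicit false

universe u

open CategoryTheory CategoryTheory.Limits Opposite

noncomputable section

namespace Groth.Agent.BiextLib

variable {C : Type (u + 1)} [Category.{u} C] {J : GrothendieckTopology C}
  {P Q G : Sheaf J AddCommGrpCat.{u + 1}} {P' Q' : Sheaf J AddCommGrpCat.{u + 1}}

/-- The flipped morphism. -/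
def flipHom {α : P' ⟶ P} {β : Q' ⟶ Q} {B' : Biext J P' Q' G} {B : Biext J P Q G}
    (φ : Biext.HomOver J α β (𝟙 G) B' B) : Biext.HomOver J β α (𝟙 G) (flip B') (flip B) where
  map := φ.map
  map_res := φ.map_res
  πP_map := φ.πQ_map
  πQ_map := φ.πP_map
  map_act := φ.map_act
  map_add₁ := φ.map_add₂
  map_add₂ := φ.map_add₁

/-- The flipped splitting. -/
def flipSplitting {B : Biext J P Q G} (s : Biext.Splitting J B) : Biext.Splitting J (flip B) where
  σ T q p := s.σ T p q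
  πP_σ T q p := s.πQ_σ T p q
  πQ_σ T q p := s.πP_σ T p q
  σ_map f q p := s.σ_map f p q
  σ_add₁ T q q' p := s.σ_add₂ T p q q'
  σ_add₂ T q p p' := s.σ_add₁ T p p' q

theorem zsmul_id_app (F : Sheaf J AddCommGrpCat.{u + 1}) (n : ℤ) (T : C) (x : F.obj.obj (op T)) :
    ((n • 𝟙 F : F ⟶ F)).hom.app (op T) x = n • x :=
  map_zsmul (AddMonoidHom.mk' (fun f : F ⟶ F => f.hom.app (op T) x) fun _ _ => rfl) n (𝟙 F)

/-- The image of `σ(a, q)` is the unit above the image of `q` when `a` is torsion and `Q` is divisible. -/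
theorem map_splitting_of_torsion {α : P' ⟶ P} {β : Q' ⟶ Q} {B' : Biext J P' Q' G} {B : Biext J P Q G}
    (φ : Biext.HomOver J α β (𝟙 G) B' B) (s : Biext.Splitting J B') (n : ℤ)
    (hdiv : ∀ (T : C) (q : Q'.obj.obj (op T)), ∃ R ∈ J T, ∀ ⦃T' : C⦄ (k : T' ⟶ T), R k →
      ∃ q' : Q'.obj.obj (op T'), n • q' = Q'.obj.map k.op q)
    {T : C} {a : P'.obj.obj (op T)} (ha : α.hom.app (op T) a = 0) (hna : n • a = 0) (q : Q'.obj.obj (op T)) :
    φ.map T (s.σ T a q) = unit₁ B T (β.hom.app (op T) q) := by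
  have hex : ∀ (T : C) (a : P'.obj.obj (op T)) (_ : α.hom.app (op T) a = 0) (q : Q'.obj.obj (op T)),
      ∃ g, B.act T g (unit₁ B T (β.hom.app (op T) q)) = φ.map T (s.σ T a q) := fun T a ha q =>
    exists_act B T _ _ (by rw [πP_unit₁, φ.πP_map, s.πP_σ, ha]) (by rw [πQ_unit₁, φ.πQ_map, s.πQ_σ])
  choose f hf using hex
  have hadd₂ : ∀ (T : C) (a : P'.obj.obj (op T)) (ha : α.hom.app (op T) a = 0) (q q' : Q'.obj.obj (op T)),
      f T a ha (q + q') = f T a ha q + f T a ha q' := fun T a ha q q' => by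
    refine act_inj B T (x := unit₁ B T (β.hom.app (op T) (q + q'))) ?_
    rw [hf, s.σ_add₂, φ.map_add₂, add₂_congr B T (hf T a ha q).symm (hf T a ha q').symm]
    have e : B.πP T (unit₁ B T (β.hom.app (op T) q)) = B.πP T (unit₁ B T (β.hom.app (op T) q')) :=
      (πP_unit₁ B T _).trans (πP_unit₁ B T _).symm
    rw [B.add_act, map_add, ← add₂_unit₁ B T, ← add₂_act_right B T _ _ _ e,
      B.add₂_act T _ (unit₁ B T (β.hom.app (op T) q)) _ (e.trans (B.πP_act T _ _).symm)]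
  have hadd₁ : ∀ (T : C) (a a' : P'.obj.obj (op T)) (ha : α.hom.app (op T) a = 0)
      (ha' : α.hom.app (op T) a' = 0) (q : Q'.obj.obj (op T)),
      f T (a + a') (by rw [map_add, ha, ha', add_zero]) q = f T a ha q + f T a' ha' q := fun T a a' ha ha' q => by
    refine act_inj B T (x := unit₁ B T (β.hom.app (op T) q)) ?_
    rw [hf, s.σ_add₁, φ.map_add₁, add₁_congr B T (hf T a ha q).symm (hf T a' ha' q).symm, B.add_act,
      B.add₁_act T _ (unit₁ B T (β.hom.app (op T) q)) _ (B.πQ_act T _ _).symm,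
      add₁_act_right B T _ (unit₁ B T (β.hom.app (op T) q)) (unit₁ B T (β.hom.app (op T) q)) rfl, unit₁_idem]
  have hkill : ∀ (T : C) (a : P'.obj.obj (op T)) (ha : α.hom.app (op T) a = 0), n • a = 0 →
      ∀ q : Q'.obj.obj (op T), f T a ha (n • q) = 0 := fun T a ha hna q => by
    refine (map_zsmul (AddMonoidHom.mk' (f T a ha) (hadd₂ T a ha)) n q).trans ?_
    let K : AddSubgroup (P'.obj.obj (op T)) := (α.hom.app (op T)).hom.ker
    let F : K →+ G.obj.obj (op T) := AddMonoidHom.mk' (fun b => f T b.1 b.2 q) fun b b' => hadd₁ T b.1 b'.1 b.2 b'.2 q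
    refine (map_zsmul F n ⟨a, ha⟩).symm.trans ?_
    rw [show n • (⟨a, ha⟩ : K) = 0 from Subtype.ext hna, map_zero]
  obtain ⟨R, hR, hl⟩ := hdiv T q
  have hg : f T a ha q = 0 := ab_ext_of_cover G hR fun T' k hk => by
    obtain ⟨q', hq'⟩ := hl k hk
    have hak : α.hom.app (op T') (P'.obj.map k.op a) = 0 :=
      (ConcreteCategory.congr_hom (α.hom.naturality k.op) a).trans ((congrArg (P.obj.map k.op) ha).trans (map_zero (P.obj.map k.op).hom))
    rw [map_zero]
    refine Eq.trans ?_ (hkill T' _ hak (by rw [← map_zsmul, hna, map_zero]) q')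
    refine act_inj B T' (x := unit₁ B T' (β.hom.app (op T') (n • q'))) ?_
    rw [hf, hq', ← s.σ_map, φ.map_res, ← hf T a ha q, B.act_map]
    exact congrArg (B.act T' _) ((unit₂_map (flip B) k _).trans
      (congrArg (unit₁ B T') (ConcreteCategory.congr_hom (β.hom.naturality k.op) q).symm)).symm
  rw [← hf T a ha q, hg, B.zero_act]

theorem exists_div [J.WEqualsLocallyBijective AddCommGrpCat.{u + 1}] [HasSheafify J AddCommGrpCat.{u + 1}]
    {F : Sheaf J AddCommGrpCat.{u + 1}} {n : ℤ} (h : Epi (n • 𝟙 F)) (T : C) (x : F.obj.obj (op T)) :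
    ∃ R ∈ J T, ∀ ⦃T' : C⦄ (k : T' ⟶ T), R k → ∃ y : F.obj.obj (op T'), n • y = F.obj.map k.op x := by
  haveI : Sheaf.IsLocallySurjective (n • 𝟙 F : F ⟶ F) :=
    (Sheaf.isLocallySurjective_iff_epi' (A := AddCommGrpCat.{u + 1}) _).2 h
  refine ⟨_, Presheaf.imageSieve_mem J (n • 𝟙 F : F ⟶ F).hom x, fun T' k hk => ?_⟩
  obtain ⟨y, hy⟩ := hk
  exact ⟨y, (zsmul_id_app F n T' y).symm.trans hy⟩

/-- If the inverse image of a biextension by multiplications on divisible groups is trivial, so is the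
biextension. -/
theorem isTrivial_of_divisible [J.WEqualsLocallyBijective AddCommGrpCat.{u + 1}]
    [HasSheafify J AddCommGrpCat.{u + 1}] {B B' : Biext J P Q G} {n m : ℤ}
    (hPn : Epi (n • 𝟙 P)) (hPm : Epi (m • 𝟙 P)) (hQn : Epi (n • 𝟙 Q)) (hQm : Epi (m • 𝟙 Q))
    (φ : Biext.HomOver J (n • 𝟙 P) (m • 𝟙 Q) (𝟙 G) B' B) (hB' : Biext.IsTrivial J B') :
    Biext.IsTrivial J B := by
  obtain ⟨s⟩ := hB'
  -- independence of the chosen roots
  have key : ∀ (T : C) (p p' : P.obj.obj (op T)) (q q' : Q.obj.obj (op T)),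
      n • p = n • p' → m • q = m • q' → φ.map T (s.σ T p q) = φ.map T (s.σ T p' q') := fun T p p' q q' hp hq => by
    have h1 : φ.map T (s.σ T p q) = φ.map T (s.σ T p' q) := by
      have hna : n • (p - p') = 0 := by rw [zsmul_sub, hp, sub_self]
      conv_lhs => rw [← add_sub_cancel p' p]
      rw [s.σ_add₁, φ.map_add₁, add₁_congr B T rfl
        (map_splitting_of_torsion φ s n (exists_div hQn) ((zsmul_id_app P n T _).trans hna) hna q)]
      exact add₁_unit₁ B T _ _ ((φ.πQ_map T _).trans (by rw [s.πQ_σ]))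
    have h2 : φ.map T (s.σ T p' q) = φ.map T (s.σ T p' q') := by
      have hmb : m • (q - q') = 0 := by rw [zsmul_sub, hq, sub_self]
      conv_lhs => rw [← add_sub_cancel q' q]
      have e2 : φ.map T (s.σ T p' (q - q')) = unit₁ (flip B) T ((n • 𝟙 P : P ⟶ P).hom.app (op T) p') :=
        map_splitting_of_torsion (flipHom φ) (flipSplitting s) m (exists_div hPm)
          ((zsmul_id_app Q m T _).trans hmb) hmb p'
      rw [s.σ_add₂, φ.map_add₂, add₂_congr B T rfl e2]
      have e3 : B.πP T (φ.map T (s.σ T p' q')) = (n • 𝟙 P : P ⟶ P).hom.app (op T) p' :=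
        (φ.πP_map T _).trans (congrArg _ (s.πP_σ T p' q'))
      have e4 := add₁_unit₁ (flip B) T (φ.map T (s.σ T p' q')) ((n • 𝟙 P : P ⟶ P).hom.app (op T) p') e3
      exact e4
    exact h1.trans h2
  let IsVal : ∀ T : C, P.obj.obj (op T) → Q.obj.obj (op T) → B.E.obj.obj (op T) → Prop := fun T p q x =>
    ∀ ⦃T' : C⦄ (k : T' ⟶ T) (p' : P.obj.obj (op T')) (q' : Q.obj.obj (op T')),
      n • p' = P.obj.map k.op p → m • q' = Q.obj.map k.op q → B.E.obj.map k.op x = φ.map T' (s.σ T' p' q')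
  have hroots : ∀ (T : C) (p : P.obj.obj (op T)) (q : Q.obj.obj (op T)), ∃ R ∈ J T, ∀ ⦃T' : C⦄ (k : T' ⟶ T),
      R k → ∃ (p' : P.obj.obj (op T')) (q' : Q.obj.obj (op T')),
        n • p' = P.obj.map k.op p ∧ m • q' = Q.obj.map k.op q := fun T p q => by
    obtain ⟨R, hR, hl⟩ := exists_div hPn T p
    obtain ⟨R', hR', hl'⟩ := exists_div hQm T q
    refine ⟨R ⊓ R', J.intersection_covering hR hR', fun T' k hk => ?_⟩
    obtain ⟨p', hp'⟩ := hl k hk.1
    obtain ⟨q', hq'⟩ := hl' k hk.2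
    exact ⟨p', q', hp', hq'⟩
  have hex : ∀ (T : C) (p : P.obj.obj (op T)) (q : Q.obj.obj (op T)), ∃ x, IsVal T p q x := by
    intro T p q
    obtain ⟨R, hR, hl⟩ := hroots T p q
    obtain ⟨x, hx⟩ := exists_glue B.E (fun T' k x => ∃ (p' : P.obj.obj (op T')) (q' : Q.obj.obj (op T')),
        n • p' = P.obj.map k.op p ∧ m • q' = Q.obj.map k.op q ∧ φ.map T' (s.σ T' p' q') = x)
      (fun {T' T''} l k x hx => by
        obtain ⟨p', q', hp', hq', rfl⟩ := hx
        refine ⟨P.obj.map l.op p', Q.obj.map l.op q', by rw [← map_zsmul, hp', ab_map_map],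
          by rw [← map_zsmul, hq', ab_map_map], ?_⟩
        rw [← s.σ_map, φ.map_res])
      (fun T' k x y hx hy => by
        obtain ⟨p', q', hp', hq', rfl⟩ := hx
        obtain ⟨p'', q'', hp'', hq'', rfl⟩ := hy
        exact key _ _ _ _ _ (hp'.trans hp''.symm) (hq'.trans hq''.symm))
      hR (fun T' k hk => by
        obtain ⟨p', q', hp', hq'⟩ := hl k hk
        exact ⟨_, p', q', hp', hq', rfl⟩)
    refine ⟨x, fun T' k p' q' hp' hq' => ext_of_cover B.E (J.pullback_stable k hR) fun T'' l hl' => ?_⟩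
    obtain ⟨p'', q'', hp'', hq'', e⟩ := hx (l ≫ k) hl'
    rw [map_map, ← e, ← φ.map_res, s.σ_map]
    exact key _ _ _ _ _ (by rw [hp'', ← map_zsmul, hp', ab_map_map]) (by rw [hq'', ← map_zsmul, hq', ab_map_map])
  choose τ hτ using hex
  refine ⟨{
    σ := τ
    πP_σ := fun T p q => ?_
    πQ_σ := fun T p q => ?_
    σ_map := fun {T T'} f p q => ?_
    σ_add₁ := fun T p p' q => ?_
    σ_add₂ := fun T p q q' => ?_ }⟩
  · obtain ⟨R, hR, hl⟩ := hroots T p q
    refine ab_ext_of_cover P hR fun T' k hk => ?_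
    obtain ⟨a, b, ha, hb⟩ := hl k hk
    rw [← B.πP_map, hτ T p q k a b ha hb, φ.πP_map, s.πP_σ, zsmul_id_app, ha]
  · obtain ⟨R, hR, hl⟩ := hroots T p q
    refine ab_ext_of_cover Q hR fun T' k hk => ?_
    obtain ⟨a, b, ha, hb⟩ := hl k hk
    rw [← B.πQ_map, hτ T p q k a b ha hb, φ.πQ_map, s.πQ_σ, zsmul_id_app, hb]
  · obtain ⟨R, hR, hl⟩ := hroots T' (P.obj.map f.op p) (Q.obj.map f.op q)
    refine ext_of_cover B.E hR fun T'' k hk => ?_
    obtain ⟨a, b, ha, hb⟩ := hl k hk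
    rw [map_map, hτ T p q (k ≫ f) a b (by rw [ha, ab_map_map]) (by rw [hb, ab_map_map]),
      hτ T' _ _ k a b ha hb]
  · obtain ⟨R, hR, hl⟩ := hroots T p q
    obtain ⟨R', hR', hl'⟩ := hroots T p' q
    refine ext_of_cover B.E (J.intersection_covering hR hR') fun T' k hk => ?_
    obtain ⟨a, b, ha, hb⟩ := hl k hk.1
    obtain ⟨a', b', ha', hb'⟩ := hl' k hk.2
    rw [B.add₁_map, add₁_congr B T' (hτ T p q k a b ha hb) (hτ T p' q k a' b ha' hb),
      hτ T (p + p') q k (a + a') b (by rw [zsmul_add, ha, ha', map_add]) hb, s.σ_add₁, φ.map_add₁]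
  · obtain ⟨R, hR, hl⟩ := hroots T p q
    obtain ⟨R', hR', hl'⟩ := hroots T p q'
    refine ext_of_cover B.E (J.intersection_covering hR hR') fun T' k hk => ?_
    obtain ⟨a, b, ha, hb⟩ := hl k hk.1
    obtain ⟨a', b', ha', hb'⟩ := hl' k hk.2
    rw [B.add₂_map, add₂_congr B T' (hτ T p q k a b ha hb) (hτ T p q' k a b' ha hb'),
      hτ T p (q + q') k a (b + b') ha (by rw [zsmul_add, hb, hb', map_add]), s.σ_add₂, φ.map_add₂]

end Groth.Agent.BiextLib
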