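import Groth.Agent.BiextLib.Splittings
import Groth.Agent.HomShExact.Dual

/-!
# The obstruction to local splittings of a biextension in the first local Ext sheaf
-/

set_option autoImplicit false

universe u

open CategoryTheory CategoryTheory.Limits Opposite

noncomputable section

namespace Groth.Agent.BiextLib

variable {C : Type (u + 1)} [Category.{u} C] {J : GrothendieckTopology C}
  {P Q G : Sheaf J AddCommGrpCat.{u + 1}} (B : Biext J P Q G)

/-- The fibre above a section of `P`. -/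
def Fib (T : C) (p : P.obj.obj (op T)) : Type (u + 1) := {x : B.E.obj.obj (op T) // B.πP T x = p}

variable {B}

theorem Fib.ext {T : C} {p : P.obj.obj (op T)} {x y : Fib B T p} (h : x.1 = y.1) : x = y := Subtype.ext h

instance (T : C) (p : P.obj.obj (op T)) : Add (Fib B T p) :=
  ⟨fun x y => ⟨B.add₂ T x.1 y.1 (x.2.trans y.2.symm), (B.πP_add₂ T _ _ _).trans x.2⟩⟩

instance (T : C) (p : P.obj.obj (op T)) : Zero (Fib B T p) := ⟨⟨unit₂ B T p, πP_unit₂ B T p⟩⟩

instance (T : C) (p : P.obj.obj (op T)) : Neg (Fib B T p) :=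
  ⟨fun x => ⟨neg₂ B T x.1, (πP_neg₂ B T x.1).trans x.2⟩⟩

theorem Fib.add_zero' {T : C} {p : P.obj.obj (op T)} (x : Fib B T p) : x + 0 = x := by
  obtain ⟨x, rfl⟩ := x
  exact Fib.ext (add₂_unit₂ B T x)

theorem Fib.add_neg' {T : C} {p : P.obj.obj (op T)} (x : Fib B T p) : x + -x = 0 := by
  obtain ⟨x, rfl⟩ := x
  exact Fib.ext (add₂_neg₂ B T x)

theorem Fib.add_comm' {T : C} {p : P.obj.obj (op T)} (x y : Fib B T p) : x + y = y + x :=
  Fib.ext (B.add₂_comm T _ _ _)

instance (T : C) (p : P.obj.obj (op T)) : AddCommGroup (Fib B T p) where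
  add_assoc a b c := Fib.ext (B.add₂_assoc T _ _ _ (a.2.trans b.2.symm) (b.2.trans c.2.symm))
  add_comm := Fib.add_comm'
  zero_add a := (Fib.add_comm' _ _).trans a.add_zero'
  add_zero := Fib.add_zero'
  neg_add_cancel a := (Fib.add_comm' _ _).trans a.add_neg'
  nsmul := nsmulRec
  zsmul := zsmulRec

variable (B)

/-- The fibre above `p` as a presheaf on the slice. -/
def fibPre {T : C} (p : P.obj.obj (op T)) : (Over T)ᵒᵖ ⥤ AddCommGrpCat.{u + 1} where
  obj U := AddCommGrpCat.of (Fib B U.unop.left (P.obj.map U.unop.hom.op p))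
  map {U V} f := AddCommGrpCat.ofHom (AddMonoidHom.mk'
    (fun x => ⟨B.E.obj.map f.unop.left.op x.1, by rw [B.πP_map, x.2, ab_map_map, Over.w]⟩)
    fun x y => Fib.ext (B.add₂_map f.unop.left x.1 y.1 _))
  map_id U := AddCommGrpCat.ext fun x => Fib.ext (map_id' B.E x.1)
  map_comp f g := AddCommGrpCat.ext fun x => Fib.ext (map_map B.E f.unop.left g.unop.left x.1).symm

/-- The inclusion of the group in the fibre. -/
def fibIncl {T : C} (p : P.obj.obj (op T)) : (Over.forget T).op ⋙ G.obj ⟶ fibPre B p where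
  app U := AddCommGrpCat.ofHom (AddMonoidHom.mk'
    (fun g => ⟨B.act U.unop.left g (unit₂ B U.unop.left (P.obj.map U.unop.hom.op p)),
      (B.πP_act _ _ _).trans (πP_unit₂ B _ _)⟩)
    fun g g' => Fib.ext (by
      let e := unit₂ B U.unop.left (P.obj.map U.unop.hom.op p)
      show B.act _ (g + g') e = B.add₂ _ (B.act _ g e) (B.act _ g' e) _
      rw [B.add_act, B.add₂_act _ g e (B.act _ g' e) (B.πP_act _ g' e).symm, add₂_act_right B _ g' e e rfl]
      exact congrArg (B.act _ g) (congrArg (B.act _ g') (unit₂_spec B _ _).idem.symm)))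
  naturality U V f := AddCommGrpCat.ext fun g => Fib.ext (by
    show B.act V.unop.left (G.obj.map f.unop.left.op g) (unit₂ B V.unop.left (P.obj.map V.unop.hom.op p)) =
      B.E.obj.map f.unop.left.op (B.act U.unop.left g (unit₂ B U.unop.left (P.obj.map U.unop.hom.op p)))
    rw [B.act_map, unit₂_map, ab_map_map, Over.w])

instance mono_fibIncl {T : C} (p : P.obj.obj (op T)) : Mono (fibIncl B p) := by
  have : ∀ U, Mono ((fibIncl B p).app U) := fun U => (AddCommGrpCat.mono_iff_injective _).2 fun g g' h =>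
    act_inj B U.unop.left (congrArg Subtype.val h)
  exact NatTrans.mono_of_mono_app _

variable {M : Sheaf J AddCommGrpCat.{u + 1}}

/-- An extension to the fibre above `p` of a morphism `G ⟶ M`. -/
structure FibExt {T : C} (p : P.obj.obj (op T)) (j : G ⟶ M) : Type (u + 1) where
  ψ : ∀ (T' : C) (h : T' ⟶ T) (x : B.E.obj.obj (op T')), B.πP T' x = P.obj.map h.op p → M.obj.obj (op T')
  ψ_map : ∀ {T' T'' : C} (k : T'' ⟶ T') (h : T' ⟶ T) (x : B.E.obj.obj (op T')) (e : B.πP T' x = P.obj.map h.op p),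
    M.obj.map k.op (ψ T' h x e) = ψ T'' (k ≫ h) (B.E.obj.map k.op x) (by rw [B.πP_map, e, ab_map_map])
  ψ_act : ∀ (T' : C) (h : T' ⟶ T) (g : G.obj.obj (op T')) (x : B.E.obj.obj (op T'))
    (e : B.πP T' x = P.obj.map h.op p),
    ψ T' h (B.act T' g x) ((B.πP_act T' g x).trans e) = j.hom.app (op T') g + ψ T' h x e
  ψ_add : ∀ (T' : C) (h : T' ⟶ T) (x y : B.E.obj.obj (op T')) (e : B.πP T' x = P.obj.map h.op p)
    (e' : B.πP T' y = P.obj.map h.op p),
    ψ T' h (B.add₂ T' x y (e.trans e'.symm)) ((B.πP_add₂ T' x y _).trans e) = ψ T' h x e + ψ T' h y e'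

variable {B}

theorem FibExt.congr {T : C} {p : P.obj.obj (op T)} {j : G ⟶ M} (F : FibExt B p j) (T' : C)
    {h h' : T' ⟶ T} (hh : h = h') {x x' : B.E.obj.obj (op T')} (hx : x = x') (e : B.πP T' x = P.obj.map h.op p) :
    F.ψ T' h x e = F.ψ T' h' x' (by rw [← hx, ← hh, e]) := by
  subst hh; subst hx; rfl

/-- Restriction of extensions. -/
def FibExt.res {T T₁ : C} (k : T₁ ⟶ T) {p : P.obj.obj (op T)} {j : G ⟶ M} (F : FibExt B p j) :
    FibExt B (P.obj.map k.op p) j where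
  ψ T' h x e := F.ψ T' (h ≫ k) x (by rw [e, ab_map_map])
  ψ_map {T' T''} l h x e := by
    rw [F.ψ_map]
    exact F.congr _ (Category.assoc _ _ _).symm rfl _
  ψ_act T' h g x e := F.ψ_act T' (h ≫ k) g x _
  ψ_add T' h x y e e' := F.ψ_add T' (h ≫ k) x y (by rw [e, ab_map_map]) (by rw [e', ab_map_map])

variable (B)

theorem exists_fibExt [HasSheafify J AddCommGrpCat.{u + 1}] [Injective M] {T : C} (p : P.obj.obj (op T))
    (j : G ⟶ M) : Nonempty (FibExt B p j) := by
  haveI : Injective M.obj :=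
    Injective.injective_of_adjoint (sheafificationAdjunction J AddCommGrpCat.{u + 1}) M
  haveI : Injective ((Over.forget T).op ⋙ M.obj) := HomShExact.injective_presheaf_over T M.obj
  let ψ : fibPre B p ⟶ (Over.forget T).op ⋙ M.obj :=
    Injective.factorThru (Functor.whiskerLeft (Over.forget T).op j.hom) (fibIncl B p)
  have hψ : fibIncl B p ≫ ψ = Functor.whiskerLeft (Over.forget T).op j.hom := Injective.comp_factorThru _ _
  have hnat : ∀ {T' T'' : C} (k : T'' ⟶ T') (h : T' ⟶ T) (x : B.E.obj.obj (op T')) (e : B.πP T' x = P.obj.map h.op p),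
      M.obj.map k.op (ψ.app (op (Over.mk h)) ⟨x, e⟩) =
        ψ.app (op (Over.mk (k ≫ h))) ⟨B.E.obj.map k.op x, by
          show B.πP T'' (B.E.obj.map k.op x) = P.obj.map (k ≫ h).op p
          rw [B.πP_map, e, ab_map_map]⟩ := fun k h x e =>
    (ConcreteCategory.congr_hom (ψ.naturality (Over.homMk k : Over.mk (k ≫ h) ⟶ Over.mk h).op) ⟨x, e⟩).symm
  refine ⟨{
    ψ := fun T' h x e => ψ.app (op (Over.mk h)) ⟨x, e⟩
    ψ_map := fun k h x e => hnat k h x e
    ψ_act := fun T' h g x e => ?_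
    ψ_add := fun T' h x y e e' => (ψ.app (op (Over.mk h))).hom.map_add ⟨x, e⟩ ⟨y, e'⟩ }⟩
  have h2 : (⟨B.act T' g x, (B.πP_act T' g x).trans e⟩ : Fib B T' (P.obj.map h.op p)) =
      HAdd.hAdd (α := Fib B T' (P.obj.map h.op p)) (β := Fib B T' (P.obj.map h.op p))
        ((fibIncl B p).app (op (Over.mk h)) g) (⟨x, e⟩ : Fib B T' (P.obj.map h.op p)) := by
    refine Fib.ext ?_
    show B.act T' g x = B.add₂ T' (B.act T' g (unit₂ B T' (P.obj.map h.op p))) x _
    rw [B.add₂_act T' g (unit₂ B T' (P.obj.map h.op p)) x ((πP_unit₂ B T' _).trans e.symm)]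
    subst_vars
    rw [B.add₂_comm T' _ x _]
    exact congrArg (B.act T' g) ((congrArg Subtype.val (Fib.add_zero' (⟨x, e⟩ : Fib B T' _))).symm)
  refine (congrArg (ψ.app (op (Over.mk h))) h2).trans ((map_add (ψ.app (op (Over.mk h))).hom _ _).trans ?_)
  exact congrArg (· + _) (ConcreteCategory.congr_hom (congr_app hψ (op (Over.mk h))) g)

variable {N : Sheaf J AddCommGrpCat.{u + 1}}

theorem app_map {F F' : Sheaf J AddCommGrpCat.{u + 1}} (f : F ⟶ F') {T T' : C} (k : T' ⟶ T)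
    (x : F.obj.obj (op T)) : F'.obj.map k.op (f.hom.app (op T) x) = f.hom.app (op T') (F.obj.map k.op x) :=
  (ConcreteCategory.congr_hom (f.hom.naturality k.op) x).symm

theorem app_zero_of_comp_eq_zero {F₁ F₂ F₃ : Sheaf J AddCommGrpCat.{u + 1}} {f : F₁ ⟶ F₂} {g : F₂ ⟶ F₃}
    (w : f ≫ g = 0) {T : C} (x : F₁.obj.obj (op T)) : g.hom.app (op T) (f.hom.app (op T) x) = 0 :=
  ConcreteCategory.congr_hom (congr_arg (fun m : F₁ ⟶ F₃ => m.hom.app (op T)) w) x

omit B in
/-- A functional, additive, locally defined relation is a homomorphism on the slice. -/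
theorem exists_hom_of_rel {Q N : Sheaf J AddCommGrpCat.{u + 1}} {T : C}
    (Rel : ∀ T' : C, (T' ⟶ T) → Q.obj.obj (op T') → N.obj.obj (op T') → Prop)
    (hres : ∀ {T' T'' : C} (k : T'' ⟶ T') (h : T' ⟶ T) (q : Q.obj.obj (op T')) (v : N.obj.obj (op T')),
      Rel T' h q v → Rel T'' (k ≫ h) (Q.obj.map k.op q) (N.obj.map k.op v))
    (huniq : ∀ (T' : C) (h : T' ⟶ T) (q : Q.obj.obj (op T')) (v w : N.obj.obj (op T')),
      Rel T' h q v → Rel T' h q w → v = w)
    (hloc : ∀ (T' : C) (h : T' ⟶ T) (q : Q.obj.obj (op T')), ∃ R ∈ J T', ∀ ⦃T'' : C⦄ (k : T'' ⟶ T'), R k →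
      ∃ v, Rel T'' (k ≫ h) (Q.obj.map k.op q) v)
    (hadd : ∀ (T' : C) (h : T' ⟶ T) (q q' : Q.obj.obj (op T')) (v v' : N.obj.obj (op T')),
      Rel T' h q v → Rel T' h q' v' → Rel T' h (q + q') (v + v')) :
    ∃ χ : (HomSh.homSh J Q N).obj.obj (op T), ∀ (T' : C) (h : T' ⟶ T) (q : Q.obj.obj (op T')) (v : N.obj.obj (op T')),
      Rel T' h q v → evv χ T' h q = v := by
  let IsVal : ∀ (T' : C) (h : T' ⟶ T) (q : Q.obj.obj (op T')), N.obj.obj (op T') → Prop := fun T' h q v =>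
    ∀ ⦃T'' : C⦄ (k : T'' ⟶ T') (w : N.obj.obj (op T'')),
      Rel T'' (k ≫ h) (Q.obj.map k.op q) w → N.obj.map k.op v = w
  have hchar : ∀ (T' : C) (h : T' ⟶ T) (q : Q.obj.obj (op T')) (v w : N.obj.obj (op T')),
      IsVal T' h q v → IsVal T' h q w → v = w := fun T' h q v w hv hw => by
    obtain ⟨R, hR, hl⟩ := hloc T' h q
    refine ab_ext_of_cover N hR fun T'' k hk => ?_
    obtain ⟨a, ha⟩ := hl k hk
    exact (hv k a ha).trans (hw k a ha).symm
  have hVres : ∀ {T' T'' : C} (k : T'' ⟶ T') (h : T' ⟶ T) (q : Q.obj.obj (op T')) (v : N.obj.obj (op T')),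
      IsVal T' h q v → IsVal T'' (k ≫ h) (Q.obj.map k.op q) (N.obj.map k.op v) :=
    fun {T' T''} k h q v hv T₁ l w hw => by
      rw [ab_map_map]
      refine hv (l ≫ k) w ?_
      rw [Category.assoc, ← ab_map_map]
      exact hw
  have hex : ∀ (T' : C) (h : T' ⟶ T) (q : Q.obj.obj (op T')), ∃ v, IsVal T' h q v := by
    intro T' h q
    obtain ⟨R, hR, hl⟩ := hloc T' h q
    obtain ⟨v, hv⟩ := exists_glue ((sheafCompose J (forget AddCommGrpCat.{u + 1})).obj N)
      (fun T'' k v => Rel T'' (k ≫ h) (Q.obj.map k.op q) v)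
      (fun {T₁ T₂} l k v hv => by
        show Rel T₂ ((l ≫ k) ≫ h) (Q.obj.map (l ≫ k).op q) (N.obj.map l.op v)
        rw [Category.assoc, ← ab_map_map]
        exact hres l (k ≫ h) _ v hv)
      (fun T'' k v v' hv hv' => huniq _ _ _ _ _ hv hv') hR hl
    refine ⟨v, fun T'' k w hw => ab_ext_of_cover N (J.pullback_stable k hR) fun T₁ l hl => ?_⟩
    rw [ab_map_map]
    refine huniq _ _ _ _ _ (hv (l ≫ k) hl) ?_
    rw [Category.assoc, ← ab_map_map]
    exact hres l _ _ _ hw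
  choose v hv using hex
  have hmap : ∀ {T' T'' : C} (k : T'' ⟶ T') (h : T' ⟶ T) (q : Q.obj.obj (op T')),
      v T'' (k ≫ h) (Q.obj.map k.op q) = N.obj.map k.op (v T' h q) := fun k h q =>
    hchar _ _ _ _ _ (hv _ _ _) (hVres k h q _ (hv _ h q))
  have hadd' : ∀ (T' : C) (h : T' ⟶ T) (q q' : Q.obj.obj (op T')), v T' h (q + q') = v T' h q + v T' h q' := by
    intro T' h q q'
    obtain ⟨R, hR, hl⟩ := hloc T' h q
    obtain ⟨R', hR', hl'⟩ := hloc T' h q'
    refine ab_ext_of_cover N (J.intersection_covering hR hR') fun T'' k hk => ?_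
    obtain ⟨a, ha⟩ := hl k hk.1
    obtain ⟨a', ha'⟩ := hl' k hk.2
    rw [map_add, hv T' h q k a ha, hv T' h q' k a' ha']
    refine hv T' h (q + q') k (a + a') ?_
    rw [map_add]
    exact hadd _ _ _ _ _ _ ha ha'
  let a : Q.over T ⟶ N.over T := ObjectProperty.homMk
    { app := fun U => AddCommGrpCat.ofHom (AddMonoidHom.mk' (v U.unop.left U.unop.hom) (hadd' _ _))
      naturality := fun U V f => AddCommGrpCat.ext fun q => by
        show v V.unop.left V.unop.hom (Q.obj.map f.unop.left.op q) = N.obj.map f.unop.left.op (v U.unop.left U.unop.hom q)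
        rw [← hmap, Over.w] }
  refine ⟨(HomSh.sectEquiv J Q N T).symm a, fun T' h q w hw => ?_⟩
  show v T' h q = w
  have h1 := hv T' h q (𝟙 T') w (by rwa [Category.id_comp, ab_map_id])
  rwa [ab_map_id] at h1

/-- Two homomorphisms agreeing on the points of the fibre above `p` are equal. -/
theorem hom_ext_fib {T : C} (p : P.obj.obj (op T)) {χ χ' : (HomSh.homSh J Q N).obj.obj (op T)}
    (e : ∀ (T' : C) (h : T' ⟶ T) (x : B.E.obj.obj (op T')), B.πP T' x = P.obj.map h.op p →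
      evv χ T' h (B.πQ T' x) = evv χ' T' h (B.πQ T' x)) : χ = χ' :=
  hom_ext_evv fun T' h q => by
    obtain ⟨R, hR, hloc⟩ := B.locallySurjective T' (P.obj.map h.op p) q
    refine ab_ext_of_cover N hR fun T'' k hk => ?_
    obtain ⟨x, hxP, hxQ⟩ := hloc k hk
    rw [evv_map, evv_map, ← hxQ]
    exact e T'' (k ≫ h) x (by rw [hxP, ab_map_map])

theorem exists_desc {T : C} (p : P.obj.obj (op T))
    (ψ : ∀ (T' : C) (h : T' ⟶ T) (x : B.E.obj.obj (op T')), B.πP T' x = P.obj.map h.op p → N.obj.obj (op T'))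
    (ψ_map : ∀ {T' T'' : C} (k : T'' ⟶ T') (h : T' ⟶ T) (x : B.E.obj.obj (op T')) (e : B.πP T' x = P.obj.map h.op p),
      N.obj.map k.op (ψ T' h x e) = ψ T'' (k ≫ h) (B.E.obj.map k.op x) (by rw [B.πP_map, e, ab_map_map]))
    (ψ_act : ∀ (T' : C) (h : T' ⟶ T) (g : G.obj.obj (op T')) (x : B.E.obj.obj (op T'))
      (e : B.πP T' x = P.obj.map h.op p), ψ T' h (B.act T' g x) ((B.πP_act T' g x).trans e) = ψ T' h x e)
    (ψ_add : ∀ (T' : C) (h : T' ⟶ T) (x y : B.E.obj.obj (op T')) (e : B.πP T' x = P.obj.map h.op p)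
      (e' : B.πP T' y = P.obj.map h.op p),
      ψ T' h (B.add₂ T' x y (e.trans e'.symm)) ((B.πP_add₂ T' x y _).trans e) = ψ T' h x e + ψ T' h y e') :
    ∃ χ : (HomSh.homSh J Q N).obj.obj (op T), ∀ (T' : C) (h : T' ⟶ T) (x : B.E.obj.obj (op T'))
      (e : B.πP T' x = P.obj.map h.op p), evv χ T' h (B.πQ T' x) = ψ T' h x e := by
  obtain ⟨χ, hχ⟩ := exists_hom_of_rel (Q := Q) (N := N) (T := T)
    (fun T' h q v => ∃ (x : B.E.obj.obj (op T')) (e : B.πP T' x = P.obj.map h.op p), B.πQ T' x = q ∧ ψ T' h x e = v)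
    (fun {T' T''} k h q v hv => by
      obtain ⟨x, e, rfl, rfl⟩ := hv
      exact ⟨B.E.obj.map k.op x, by rw [B.πP_map, e, ab_map_map], B.πQ_map k x, (ψ_map k h x e).symm⟩)
    (fun T' h q v w hv hw => by
      obtain ⟨x, e, hq, rfl⟩ := hv
      obtain ⟨y, e', hq', rfl⟩ := hw
      obtain ⟨g, rfl⟩ := exists_act B T' x y (e.trans e'.symm) (hq.trans hq'.symm)
      exact (ψ_act T' h g x e).symm)
    (fun T' h q => by
      obtain ⟨R, hR, hl⟩ := B.locallySurjective T' (P.obj.map h.op p) q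
      refine ⟨R, hR, fun T'' k hk => ?_⟩
      obtain ⟨x, hxP, hxQ⟩ := hl k hk
      exact ⟨_, x, by rw [hxP, ab_map_map], hxQ, rfl⟩)
    (fun T' h q q' v v' hv hv' => by
      obtain ⟨x, e, rfl, rfl⟩ := hv
      obtain ⟨y, e', rfl, rfl⟩ := hv'
      exact ⟨B.add₂ T' x y (e.trans e'.symm), (B.πP_add₂ T' x y _).trans e, B.πQ_add₂ T' x y _, ψ_add T' h x y e e'⟩)
  exact ⟨χ, fun T' h x e => hχ T' h _ _ ⟨x, e, rfl, rfl⟩⟩

theorem evv_homShMap {N' : Sheaf J AddCommGrpCat.{u + 1}} (β : N ⟶ N') {T : C}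
    (χ : (HomSh.homSh J Q N).obj.obj (op T)) (T' : C) (h : T' ⟶ T) (q : Q.obj.obj (op T')) :
    evv ((HomSh.homShMap J (𝟙 Q) β).hom.app (op T) χ) T' h q = β.hom.app (op T') (evv χ T' h q) :=
  rfl

theorem evv_map_section {T T₁ : C} (k : T₁ ⟶ T) (χ : (HomSh.homSh J Q N).obj.obj (op T)) (T' : C) (h : T' ⟶ T₁)
    (q : Q.obj.obj (op T')) : evv ((HomSh.homSh J Q N).obj.map k.op χ) T' h q = evv χ T' (h ≫ k) q :=
  rfl

end Groth.Agent.BiextLib
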