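import Groth.Agent.BiextLib.Basic
import Groth.Prelude.Def_CGrpSh2
import Mathlib.CategoryTheory.Sites.Whiskering

/-!
# The sheaf of partial splittings of a biextension
-/

set_option autoImplicit false

universe u

open CategoryTheory CategoryTheory.Limits Opposite

noncomputable section

namespace Groth.Agent.BiextLib

variable {C : Type (u + 1)} [Category.{u} C] {J : GrothendieckTopology C}
  {P Q G : Sheaf J AddCommGrpCat.{u + 1}} (B : Biext J P Q G)

/-- The unit section of the first law. -/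
abbrev unit₁ (T : C) (q : Q.obj.obj (op T)) : B.E.obj.obj (op T) := unit₂ (flip B) T q

theorem πQ_unit₁ (T : C) (q : Q.obj.obj (op T)) : B.πQ T (unit₁ B T q) = q := πP_unit₂ (flip B) T q

theorem πP_unit₁ (T : C) (q : Q.obj.obj (op T)) : B.πP T (unit₁ B T q) = 0 := πQ_unit₂ (flip B) T q

theorem add₂_unit₁ (T : C) (q q' : Q.obj.obj (op T)) :
    B.add₂ T (unit₁ B T q) (unit₁ B T q') ((πP_unit₁ B T q).trans (πP_unit₁ B T q').symm) = unit₁ B T (q + q') :=
  add₁_unit₂ (flip B) T q q'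

theorem unit₁_idem (T : C) (q : Q.obj.obj (op T)) : B.add₁ T (unit₁ B T q) (unit₁ B T q) rfl = unit₁ B T q :=
  (unit₂_spec (flip B) T q).idem

theorem add₁_unit₁ (T : C) (x : B.E.obj.obj (op T)) (q : Q.obj.obj (op T)) (h : B.πQ T x = q) :
    B.add₁ T x (unit₁ B T q) (h.trans (πQ_unit₁ B T q).symm) = x := by
  subst h
  exact add₂_unit₂ (flip B) T x

/-- The inverse for the first law. -/
abbrev neg₁ (T : C) (x : B.E.obj.obj (op T)) : B.E.obj.obj (op T) := neg₂ (flip B) T x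

theorem πQ_neg₁ (T : C) (x : B.E.obj.obj (op T)) : B.πQ T (neg₁ B T x) = B.πQ T x := πP_neg₂ (flip B) T x

theorem πP_neg₁ (T : C) (x : B.E.obj.obj (op T)) : B.πP T (neg₁ B T x) = -B.πP T x := πQ_neg₂ (flip B) T x

theorem add₁_neg₁ (T : C) (x : B.E.obj.obj (op T)) :
    B.add₁ T x (neg₁ B T x) (πQ_neg₁ B T x).symm = unit₁ B T (B.πQ T x) := add₂_neg₂ (flip B) T x

theorem add₁_cancel_left (T : C) {x y y' : B.E.obj.obj (op T)} (h : B.πQ T x = B.πQ T y) (h' : B.πQ T x = B.πQ T y')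
    (e : B.add₁ T x y h = B.add₁ T x y' h') : y = y' :=
  add₂_cancel_left (flip B) T h h' e

/-- A splitting of the biextension over a section of `P`. -/
structure Spl (T : C) : Type (u + 1) where
  p : P.obj.obj (op T)
  σ : ∀ T' : C, (T' ⟶ T) → Q.obj.obj (op T') → B.E.obj.obj (op T')
  πP_σ : ∀ (T' : C) (h : T' ⟶ T) (q : Q.obj.obj (op T')), B.πP T' (σ T' h q) = P.obj.map h.op p
  πQ_σ : ∀ (T' : C) (h : T' ⟶ T) (q : Q.obj.obj (op T')), B.πQ T' (σ T' h q) = q
  σ_map : ∀ {T' T'' : C} (k : T'' ⟶ T') (h : T' ⟶ T) (q : Q.obj.obj (op T')),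
    B.E.obj.map k.op (σ T' h q) = σ T'' (k ≫ h) (Q.obj.map k.op q)
  σ_add : ∀ (T' : C) (h : T' ⟶ T) (q q' : Q.obj.obj (op T')),
    σ T' h (q + q') = B.add₂ T' (σ T' h q) (σ T' h q') ((πP_σ T' h q).trans (πP_σ T' h q').symm)

variable {B}

theorem Spl.ext' {T : C} {s t : Spl B T} (hp : s.p = t.p) (hσ : ∀ T' h q, s.σ T' h q = t.σ T' h q) : s = t := by
  obtain ⟨p, σ, _, _, _, _⟩ := s
  obtain ⟨p', σ', _, _, _, _⟩ := t
  obtain rfl : p = p' := hp
  obtain rfl : σ = σ' := funext fun T' => funext₂ fun h q => hσ T' h q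
  rfl

theorem Spl.πQ_eq {T : C} (s t : Spl B T) (T' : C) (h : T' ⟶ T) (q : Q.obj.obj (op T')) :
    B.πQ T' (s.σ T' h q) = B.πQ T' (t.σ T' h q) := (s.πQ_σ T' h q).trans (t.πQ_σ T' h q).symm

instance (T : C) : Add (Spl B T) :=
  ⟨fun s t =>
    { p := s.p + t.p
      σ := fun T' h q => B.add₁ T' (s.σ T' h q) (t.σ T' h q) (s.πQ_eq t T' h q)
      πP_σ := fun T' h q => by rw [B.πP_add₁, s.πP_σ, t.πP_σ, map_add]
      πQ_σ := fun T' h q => by rw [B.πQ_add₁, s.πQ_σ]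
      σ_map := fun k h q => by
        rw [B.add₁_map]
        exact add₁_congr B _ (s.σ_map k h q) (t.σ_map k h q) _
      σ_add := fun T' h q q' => by
        refine (add₁_congr B T' (s.σ_add T' h q q') (t.σ_add T' h q q') _).trans ?_
        exact B.compat T' _ _ _ _ _ _ (s.πQ_eq t T' h q) (s.πQ_eq t T' h q') }⟩

instance (T : C) : Zero (Spl B T) :=
  ⟨{ p := 0
     σ := fun T' _ q => unit₁ B T' q
     πP_σ := fun T' h q => by rw [πP_unit₁, map_zero]
     πQ_σ := fun T' _ q => πQ_unit₁ B T' q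
     σ_map := fun k _ q => unit₂_map (flip B) k q
     σ_add := fun T' _ q q' => (add₂_unit₁ B T' q q').symm }⟩

instance (T : C) : Neg (Spl B T) :=
  ⟨fun s =>
    { p := -s.p
      σ := fun T' h q => neg₁ B T' (s.σ T' h q)
      πP_σ := fun T' h q => by rw [πP_neg₁, s.πP_σ, map_neg]
      πQ_σ := fun T' h q => by rw [πQ_neg₁, s.πQ_σ]
      σ_map := fun k h q => (neg₂_map (flip B) k _).trans (congrArg (neg₁ B _) (s.σ_map k h q))
      σ_add := fun T' h q q' => by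
        have hn : B.πP T' (neg₁ B T' (s.σ T' h q)) = B.πP T' (neg₁ B T' (s.σ T' h q')) := by
          rw [πP_neg₁, πP_neg₁, s.πP_σ, s.πP_σ]
        have hQ : B.πQ T' (s.σ T' h (q + q')) =
            B.πQ T' (B.add₂ T' (neg₁ B T' (s.σ T' h q)) (neg₁ B T' (s.σ T' h q')) hn) := by
          rw [B.πQ_add₂, πQ_neg₁, πQ_neg₁, s.πQ_σ, s.πQ_σ, s.πQ_σ]
        refine add₁_cancel_left B T' (πQ_neg₁ B T' _).symm hQ ?_
        rw [add₁_neg₁, s.πQ_σ]
        rw [add₁_congr B T' (s.σ_add T' h q q') rfl hQ,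
          B.compat T' (s.σ T' h q) (s.σ T' h q') (neg₁ B T' (s.σ T' h q)) (neg₁ B T' (s.σ T' h q')) _ hn
            (πQ_neg₁ B T' _).symm (πQ_neg₁ B T' _).symm,
          add₂_congr B T' ((add₁_neg₁ B T' _).trans (congrArg (unit₁ B T') (s.πQ_σ T' h q)))
            ((add₁_neg₁ B T' _).trans (congrArg (unit₁ B T') (s.πQ_σ T' h q')))]
        exact (add₂_unit₁ B T' q q').symm }⟩

theorem Spl.add_p {T : C} (s t : Spl B T) : (s + t).p = s.p + t.p := rfl

theorem Spl.add_σ {T : C} (s t : Spl B T) (T' : C) (h : T' ⟶ T) (q : Q.obj.obj (op T')) :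
    (s + t).σ T' h q = B.add₁ T' (s.σ T' h q) (t.σ T' h q) (s.πQ_eq t T' h q) := rfl

instance (T : C) : AddCommGroup (Spl B T) where
  add_assoc a b c := Spl.ext' (add_assoc a.p b.p c.p) fun T' h q =>
    B.add₁_assoc T' _ _ _ (a.πQ_eq b T' h q) (b.πQ_eq c T' h q)
  add_comm a b := Spl.ext' (add_comm a.p b.p) fun T' h q => B.add₁_comm T' _ _ _
  zero_add a := Spl.ext' (zero_add a.p) fun T' h q =>
    (B.add₁_comm T' (unit₁ B T' q) (a.σ T' h q) _).trans (add₁_unit₁ B T' _ q (a.πQ_σ T' h q))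
  add_zero a := Spl.ext' (add_zero a.p) fun T' h q => add₁_unit₁ B T' _ q (a.πQ_σ T' h q)
  neg_add_cancel a := Spl.ext' (neg_add_cancel a.p) fun T' h q =>
    (B.add₁_comm T' (neg₁ B T' (a.σ T' h q)) (a.σ T' h q) _).trans
      ((add₁_neg₁ B T' _).trans (congrArg (unit₁ B T') (a.πQ_σ T' h q)))
  nsmul := nsmulRec
  zsmul := zsmulRec

/-- Restriction of splittings. -/
def Spl.res {T T₁ : C} (k : T₁ ⟶ T) (s : Spl B T) : Spl B T₁ where
  p := P.obj.map k.op s.p
  σ T' h q := s.σ T' (h ≫ k) q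
  πP_σ T' h q := by rw [s.πP_σ, ab_map_map]
  πQ_σ T' h q := s.πQ_σ T' (h ≫ k) q
  σ_map {T' T''} l h q := by rw [s.σ_map, Category.assoc]
  σ_add T' h q q' := s.σ_add T' (h ≫ k) q q'

theorem Spl.res_id {T : C} (s : Spl B T) : Spl.res (𝟙 T) s = s :=
  Spl.ext' (ab_map_id P _) fun T' h q => by
    show s.σ T' (h ≫ 𝟙 T) q = _
    rw [Category.comp_id]

theorem Spl.res_comp {T T₁ T₂ : C} (f : T₁ ⟶ T) (g : T₂ ⟶ T₁) (s : Spl B T) :
    Spl.res g (Spl.res f s) = Spl.res (g ≫ f) s :=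
  Spl.ext' (ab_map_map P _ _ _) fun T' h q => by
    show s.σ T' ((h ≫ g) ≫ f) q = s.σ T' (h ≫ g ≫ f) q
    rw [Category.assoc]

variable (B)

/-- The presheaf of splittings. -/
def splPre : Cᵒᵖ ⥤ AddCommGrpCat.{u + 1} where
  obj T := AddCommGrpCat.of (Spl B T.unop)
  map f := AddCommGrpCat.ofHom
    (AddMonoidHom.mk' (Spl.res f.unop) fun s t => Spl.ext' (map_add (P.obj.map f).hom s.p t.p) fun _ _ _ => rfl)
  map_id _ := AddCommGrpCat.ext fun s => Spl.res_id s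
  map_comp f g := AddCommGrpCat.ext fun s => (Spl.res_comp f.unop g.unop s).symm

theorem isSheaf_splPre : Presheaf.IsSheaf J (splPre B) := by
  apply Presheaf.isSheaf_of_isSheaf_comp J (splPre B) (forget AddCommGrpCat.{u + 1})
  rw [isSheaf_iff_isSheaf_of_type]
  intro T R hR x hx
  let w : ∀ ⦃T₁ : C⦄ (f : T₁ ⟶ T), R f → Spl B T₁ := fun T₁ f hf => x f hf
  have hw : ∀ ⦃T₁ T₂ : C⦄ (f : T₁ ⟶ T) (hf : R f) (g : T₂ ⟶ T₁),
      w (g ≫ f) (R.downward_closed hf g) = Spl.res g (w f hf) := fun T₁ T₂ f hf g =>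
    (Presieve.compatible_iff_sieveCompatible x).1 hx f g hf
  have hw' : ∀ ⦃T₁ T₂ : C⦄ (f : T₁ ⟶ T) (hf : R f) (f' : T₂ ⟶ T) (hf' : R f') (g : T₂ ⟶ T₁),
      f' = g ≫ f → w f' hf' = Spl.res g (w f hf) := fun T₁ T₂ f hf f' hf' g e => by
    subst e
    exact hw f hf g
  let Pr : ∀ ⦃T' : C⦄ (_ : T' ⟶ T) (_ : Q.obj.obj (op T')) (T'' : C), (T'' ⟶ T') → B.E.obj.obj (op T'') → Prop :=
    fun T' h q T'' l e => ∀ (f : T'' ⟶ T) (hf : R f), f = l ≫ h → e = (w f hf).σ T'' (𝟙 T'') (Q.obj.map l.op q)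
  have hex : ∀ (T' : C) (h : T' ⟶ T) (q : Q.obj.obj (op T')), ∃ e : B.E.obj.obj (op T'),
      ∀ ⦃T'' : C⦄ (l : T'' ⟶ T') (hl : R (l ≫ h)),
        B.E.obj.map l.op e = (w (l ≫ h) hl).σ T'' (𝟙 T'') (Q.obj.map l.op q) := by
    intro T' h q
    obtain ⟨e, he⟩ := exists_glue B.E (fun T'' l e => ∃ hl : R (l ≫ h), e = (w (l ≫ h) hl).σ T'' (𝟙 T'') (Q.obj.map l.op q))
      (fun {T₁ T₂} k l e ⟨hl, he⟩ => by
        have hkl : R ((k ≫ l) ≫ h) := by rw [Category.assoc]; exact R.downward_closed hl k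
        refine ⟨hkl, ?_⟩
        rw [he, Spl.σ_map, hw' (l ≫ h) hl ((k ≫ l) ≫ h) hkl k (Category.assoc _ _ _), ab_map_map]
        show _ = (w (l ≫ h) hl).σ T₂ (𝟙 T₂ ≫ k) _
        rw [Category.comp_id, Category.id_comp])
      (fun _ _ e e' he he' => he.2.trans he'.2.symm) (J.pullback_stable h hR)
      (fun T'' l hl => ⟨_, hl, rfl⟩)
    exact ⟨e, fun T'' l hl => (he l hl).2⟩
  choose σ hσ using hex
  obtain ⟨p, hp, -⟩ := isSheafT ((sheafCompose J (forget AddCommGrpCat.{u + 1})).obj P) R hR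
    (fun T₁ f hf => (w f hf).p) (fun T₁ T₂ Z g₁ g₂ f₁ f₂ h₁ h₂ e =>
      congrArg Spl.p (hx g₁ g₂ h₁ h₂ e : Spl.res g₁ (w f₁ h₁) = Spl.res g₂ (w f₂ h₂)))
  have hp' : ∀ ⦃T₁ : C⦄ (f : T₁ ⟶ T) (hf : R f), P.obj.map f.op p = (w f hf).p := fun T₁ f hf => hp f hf
  have hcov : ∀ {T' : C} (h : T' ⟶ T), R.pullback h ∈ J T' := fun h => J.pullback_stable h hR
  have hπP : ∀ (T' : C) (h : T' ⟶ T) (q : Q.obj.obj (op T')), B.πP T' (σ T' h q) = P.obj.map h.op p := by
    intro T' h q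
    refine ab_ext_of_cover P (hcov h) fun T'' l hl => ?_
    rw [← B.πP_map, hσ T' h q l hl, Spl.πP_σ, ab_map_map, ab_map_id, hp' _ hl]
  let s : Spl B T :=
    { p := p
      σ := σ
      πP_σ := hπP
      πQ_σ := fun T' h q => ab_ext_of_cover Q (hcov h) fun T'' l hl => by
        rw [← B.πQ_map, hσ T' h q l hl, Spl.πQ_σ]
      σ_map := fun {T₁ T₂} k h q => by
        refine ext_of_cover B.E (hcov (k ≫ h)) fun T'' l hl => ?_
        rw [hσ T₂ (k ≫ h) _ l hl, map_map, ab_map_map]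
        have hlk : R ((l ≫ k) ≫ h) := by rw [Category.assoc]; exact hl
        rw [hσ T₁ h q (l ≫ k) hlk]
        congr 2
        exact Category.assoc _ _ _
      σ_add := fun T' h q q' => ext_of_cover B.E (hcov h) fun T'' l hl => by
        rw [hσ T' h _ l hl, B.add₂_map, map_add, Spl.σ_add]
        exact add₂_congr B T'' (hσ T' h q l hl).symm (hσ T' h q' l hl).symm _ }
  refine ⟨s, fun T₁ f hf => Spl.ext' (hp' f hf) fun T' h q => ?_, fun t ht => ?_⟩
  · show σ T' (h ≫ f) q = _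
    have hhf : R (h ≫ f) := R.downward_closed hf h
    have h1 := hσ T' (h ≫ f) q (𝟙 T') (by rw [Category.id_comp]; exact hhf)
    rw [map_id', ab_map_id] at h1
    rw [h1, hw' f hf (𝟙 T' ≫ h ≫ f) _ h (Category.id_comp _)]
    show (w f hf).σ T' (𝟙 T' ≫ h) q = _
    rw [Category.id_comp]
  · have ht' : ∀ ⦃T₁ : C⦄ (f : T₁ ⟶ T) (hf : R f), Spl.res f t = w f hf := fun T₁ f hf => ht f hf
    refine Spl.ext' (ab_ext_of_cover P hR fun T₁ f hf => (congrArg Spl.p (ht' f hf)).trans (hp' f hf).symm)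
      fun T' h q => ext_of_cover B.E (hcov h) fun T'' l hl => ?_
    refine Eq.trans ?_ (hσ T' h q l hl).symm
    rw [t.σ_map, ← ht' _ hl]
    show _ = t.σ T'' (𝟙 T'' ≫ l ≫ h) _
    rw [Category.id_comp]

/-- The sheaf of splittings. -/
def splSh : Sheaf J AddCommGrpCat.{u + 1} := ⟨splPre B, isSheaf_splPre B⟩

/-- Its projection. -/
def splProj : splSh B ⟶ P :=
  ObjectProperty.homMk
    { app := fun T => AddCommGrpCat.ofHom (AddMonoidHom.mk' (fun s : Spl B T.unop => s.p) fun _ _ => rfl)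
      naturality := fun _ _ _ => rfl }

/-- Value of a section of the internal Hom. -/
def evv {T : C} (φ : (HomSh.homSh J Q G).obj.obj (op T)) (T' : C) (h : T' ⟶ T) (q : Q.obj.obj (op T')) :
    G.obj.obj (op T') :=
  (HomSh.sectEquiv J Q G T φ).hom.app (op (Over.mk h)) q

theorem evv_map {T : C} (φ : (HomSh.homSh J Q G).obj.obj (op T)) {T' T'' : C} (k : T'' ⟶ T') (h : T' ⟶ T)
    (q : Q.obj.obj (op T')) : G.obj.map k.op (evv φ T' h q) = evv φ T'' (k ≫ h) (Q.obj.map k.op q) :=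
  (ConcreteCategory.congr_hom ((HomSh.sectEquiv J Q G T φ).hom.naturality
    (Over.homMk k : Over.mk (k ≫ h) ⟶ Over.mk h).op) q).symm

theorem evv_add {T : C} (φ : (HomSh.homSh J Q G).obj.obj (op T)) (T' : C) (h : T' ⟶ T)
    (q q' : Q.obj.obj (op T')) : evv φ T' h (q + q') = evv φ T' h q + evv φ T' h q' :=
  map_add ((HomSh.sectEquiv J Q G T φ).hom.app (op (Over.mk h))).hom q q'

theorem evv_add' {T : C} (φ ψ : (HomSh.homSh J Q G).obj.obj (op T)) (T' : C) (h : T' ⟶ T)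
    (q : Q.obj.obj (op T')) : evv (φ + ψ) T' h q = evv φ T' h q + evv ψ T' h q := rfl

theorem hom_ext_evv {T : C} {φ ψ : (HomSh.homSh J Q G).obj.obj (op T)}
    (e : ∀ T' h q, evv φ T' h q = evv ψ T' h q) : φ = ψ :=
  (HomSh.sectEquiv J Q G T).injective (Sheaf.hom_ext (NatTrans.ext (funext fun U =>
    AddCommGrpCat.ext fun q => e U.unop.left U.unop.hom q)))

/-- Translations of the unit give splittings over zero. -/
def homSpl {T : C} (φ : (HomSh.homSh J Q G).obj.obj (op T)) : Spl B T where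
  p := 0
  σ T' h q := B.act T' (evv φ T' h q) (unit₁ B T' q)
  πP_σ T' h q := by rw [B.πP_act, πP_unit₁, map_zero]
  πQ_σ T' h q := by rw [B.πQ_act, πQ_unit₁]
  σ_map k h q := by
    rw [B.act_map, evv_map]
    exact congrArg (B.act _ _) (unit₂_map (flip B) k q)
  σ_add T' h q q' := by
    have e : B.πP T' (unit₁ B T' q) = B.πP T' (unit₁ B T' q') := (πP_unit₁ B T' q).trans (πP_unit₁ B T' q').symm
    rw [evv_add, B.add_act, ← add₂_unit₁ B T' q q', ← add₂_act_right B T' _ _ _ e,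
      B.add₂_act T' _ (unit₁ B T' q) _ (e.trans (B.πP_act T' _ _).symm)]

/-- The inclusion of the internal Hom. -/
def splIncl : HomSh.homSh J Q G ⟶ splSh B :=
  ObjectProperty.homMk
    { app := fun T => AddCommGrpCat.ofHom (AddMonoidHom.mk' (fun φ => homSpl B (T := T.unop) φ)
        fun φ ψ => Spl.ext' (add_zero 0).symm fun T' h q => by
          show B.act T' (evv (φ + ψ) T' h q) _ = B.add₁ T' (B.act T' _ _) (B.act T' _ _) _
          refine (congrArg (fun g => B.act T' g (unit₁ B T' q)) (evv_add' φ ψ T' h q)).trans ?_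
          rw [B.add_act, B.add₁_act T' _ (unit₁ B T' q) _ (by rw [B.πQ_act]),
            add₁_act_right B T' _ (unit₁ B T' q) (unit₁ B T' q) rfl, unit₁_idem])
      naturality := fun S T f => AddCommGrpCat.ext fun φ => Spl.ext' (map_zero (P.obj.map f).hom).symm
        fun T' h q => rfl }

theorem splIncl_proj : splIncl B ≫ splProj B = 0 :=
  Sheaf.hom_ext (NatTrans.ext (funext fun _ => AddCommGrpCat.ext fun _ => rfl))

theorem homSpl_injective {T : C} {φ ψ : (HomSh.homSh J Q G).obj.obj (op T)}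
    (e : homSpl B φ = homSpl B ψ) : φ = ψ :=
  hom_ext_evv fun T' h q => act_inj B T' (congrArg (fun s : Spl B T => s.σ T' h q) e)

theorem exists_homSpl {T : C} (s : Spl B T) (hs : s.p = 0) :
    ∃ φ : (HomSh.homSh J Q G).obj.obj (op T), homSpl B φ = s := by
  choose g hg using fun (T' : C) (h : T' ⟶ T) (q : Q.obj.obj (op T')) =>
    exists_act B T' (unit₁ B T' q) (s.σ T' h q) (by rw [πP_unit₁, s.πP_σ, hs, map_zero])
      (by rw [πQ_unit₁, s.πQ_σ])
  have hadd : ∀ T' h q q', g T' h (q + q') = g T' h q + g T' h q' := fun T' h q q' => by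
    have e : B.πP T' (unit₁ B T' q) = B.πP T' (unit₁ B T' q') := (πP_unit₁ B T' q).trans (πP_unit₁ B T' q').symm
    refine act_inj B T' (x := unit₁ B T' (q + q')) ?_
    rw [hg, s.σ_add, add₂_congr B T' (hg T' h q).symm (hg T' h q').symm, B.add_act, ← add₂_unit₁ B T' q q',
      ← add₂_act_right B T' _ _ _ e, B.add₂_act T' _ (unit₁ B T' q) _ (e.trans (B.πP_act T' _ _).symm)]
  have hmap : ∀ {T' T'' : C} (k : T'' ⟶ T') (h : T' ⟶ T) (q : Q.obj.obj (op T')),
      g T'' (k ≫ h) (Q.obj.map k.op q) = G.obj.map k.op (g T' h q) := fun {T' T''} k h q => by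
    refine act_inj B T'' (x := unit₁ B T'' (Q.obj.map k.op q)) ?_
    rw [hg, ← s.σ_map, ← hg T' h q, B.act_map]
    exact congrArg (B.act T'' _) (unit₂_map (flip B) k q)
  let a : Q.over T ⟶ G.over T := ObjectProperty.homMk
    { app := fun U => AddCommGrpCat.ofHom (AddMonoidHom.mk' (g U.unop.left U.unop.hom) (hadd _ _))
      naturality := fun U V f => AddCommGrpCat.ext fun q => by
        show g V.unop.left V.unop.hom (Q.obj.map f.unop.left.op q) = G.obj.map f.unop.left.op (g U.unop.left U.unop.hom q)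
        rw [← hmap, Over.w] }
  exact ⟨(HomSh.sectEquiv J Q G T).symm a, Spl.ext' hs.symm fun T' h q => hg T' h q⟩

end Groth.Agent.BiextLib
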