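import Groth.Agent.BiextLib.Obstruction
import Mathlib.Algebra.Homology.DerivedCategory.Ext.ExactSequences
import Mathlib.Algebra.Homology.DerivedCategory.Ext.ExtClass

/-!
# Biextensions are trivial when the two obstruction groups vanish
-/

set_option autoImplicit false

universe u w

open CategoryTheory CategoryTheory.Limits Opposite

noncomputable section

namespace Groth.Agent.BiextLib

variable {C : Type (u + 1)} [Category.{u} C] {J : GrothendieckTopology C}
  [HasSheafify J AddCommGrpCat.{u + 1}]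
  {P Q G : Sheaf J AddCommGrpCat.{u + 1}} (B : Biext J P Q G)

theorem exists_res_section_of_exact {S : ShortComplex (Sheaf J AddCommGrpCat.{u + 1})} (hS : S.Exact) [Mono S.f]
    {T : C} (z : S.X₂.obj.obj (op T)) (hz : S.g.hom.app (op T) z = 0) : ∃ w, S.f.hom.app (op T) w = z := by
  let E : Sheaf J AddCommGrpCat.{u + 1} ⥤ AddCommGrpCat.{u + 1} :=
    sheafToPresheaf J _ ⋙ (evaluation _ _).obj (op T)
  haveI : E.PreservesZeroMorphisms := ⟨fun _ _ => rfl⟩
  exact (ShortComplex.ab_exact_iff _).1 (hS.map_of_mono_of_preservesKernel E inferInstance inferInstance) z hz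

theorem section_injective {F F' : Sheaf J AddCommGrpCat.{u + 1}} (f : F ⟶ F') [Mono f] (T : C) :
    Function.Injective (f.hom.app (op T)) := by
  haveI : Mono f.hom := inferInstanceAs (Mono ((sheafToPresheaf J _).map f))
  exact (AddCommGrpCat.mono_iff_injective _).1 inferInstance

section Resolution

variable [HasInjectiveResolutions (Sheaf J AddCommGrpCat.{u + 1})]
  [∀ X : C, HasSheafify (J.over X) AddCommGrpCat.{u + 1}]
  [J.WEqualsLocallyBijective AddCommGrpCat.{u + 1}]
  [∀ X : C, (J.over X).WEqualsLocallyBijective AddCommGrpCat.{u + 1}]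

variable (G) in
/-- The first map of the chosen injective resolution. -/
def iota0 : G ⟶ (injectiveResolution G).cocomplex.X 0 := (injectiveResolution G).ι.f 0

variable (G) in
theorem iota0_d : iota0 G ≫ (injectiveResolution G).cocomplex.d 0 1 = 0 :=
  (injectiveResolution G).ι_f_zero_comp_complex_d

instance mono_iota0 : Mono (iota0 G) := inferInstanceAs (Mono ((injectiveResolution G).ι.f 0))

variable (G) in
theorem iota0_exact : (ShortComplex.mk (iota0 G) _ (iota0_d G)).Exact := (injectiveResolution G).exact₀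

variable (Q G) in
/-- The complex computing the local Ext sheaves. -/
def extCx : CochainComplex (Sheaf J AddCommGrpCat.{u + 1}) ℕ :=
  ((HomSh.homShFunctor J Q).mapHomologicalComplex (ComplexShape.up ℕ)).obj (injectiveResolution G).cocomplex

variable (Q G) in
/-- Its piece in degree one. -/
def extSc : ShortComplex (Sheaf J AddCommGrpCat.{u + 1}) := (extCx Q G).sc' 0 1 2

variable (Q G) in
/-- The homology in degree one of the complex, as homology of its piece. -/
def extHomIso : (extCx Q G).homology 1 ≅ (extSc Q G).homology :=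
  (extCx Q G).homologyIsoSc' 0 1 2 (by simp) (by simp)

theorem hom_extSc_eq_zero (hh : ∀ φ : P ⟶ (HomSh.extSh J Q 1).obj G, φ = 0)
    (f : P ⟶ (extSc Q G).homology) : f = 0 := by
  rw [HomSh.extSh_def] at hh
  have h1 := hh ((f ≫ (extHomIso Q G).inv) ≫
    ((injectiveResolution G).isoRightDerivedObj (HomSh.homShFunctor J Q) 1).inv)
  exact (cancel_mono (extHomIso Q G).inv).1
    (((cancel_mono ((injectiveResolution G).isoRightDerivedObj (HomSh.homShFunctor J Q) 1).inv).1
      (h1.trans zero_comp.symm)).trans zero_comp.symm)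

variable {B}

theorem exists_cycle {T : C} {p : P.obj.obj (op T)} (F : FibExt B p (iota0 G)) :
    ∃ z : (extSc Q G).cycles.obj.obj (op T), ∀ (T' : C) (h : T' ⟶ T) (x : B.E.obj.obj (op T'))
      (e : B.πP T' x = P.obj.map h.op p),
      evv ((extSc Q G).iCycles.hom.app (op T) z) T' h (B.πQ T' x) =
        ((injectiveResolution G).cocomplex.d 0 1).hom.app (op T') (F.ψ T' h x e) := by
  obtain ⟨χ, hχ⟩ := exists_desc B p
    (fun T' h x e => ((injectiveResolution G).cocomplex.d 0 1).hom.app (op T') (F.ψ T' h x e))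
    (fun k h x e => (app_map _ k _).trans (congrArg _ (F.ψ_map k h x e)))
    (fun T' h g x e => by
      refine (congrArg _ (F.ψ_act T' h g x e)).trans ((map_add _ _ _).trans ?_)
      exact (congrArg (· + _) (app_zero_of_comp_eq_zero (iota0_d G) g)).trans (zero_add _))
    (fun T' h x y e e' => (congrArg _ (F.ψ_add T' h x y e e')).trans (map_add _ _ _))
  have hz : (extSc Q G).g.hom.app (op T) χ = 0 := hom_ext_fib B p fun T' h x e => by
    refine (evv_homShMap ((injectiveResolution G).cocomplex.d 1 2) χ T' h (B.πQ T' x)).trans ?_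
    rw [hχ T' h x e]
    exact (app_zero_of_comp_eq_zero ((injectiveResolution G).cocomplex.d_comp_d 0 1 2) _).trans rfl
  let K : ShortComplex (Sheaf J AddCommGrpCat.{u + 1}) :=
    ShortComplex.mk (extSc Q G).iCycles (extSc Q G).g (extSc Q G).iCycles_g
  have hK : K.Exact := ShortComplex.exact_of_f_is_kernel K (extSc Q G).cyclesIsKernel
  haveI : Mono K.f := inferInstanceAs (Mono (extSc Q G).iCycles)
  obtain ⟨z, hz'⟩ := exists_res_section_of_exact hK χ hz
  exact ⟨z, fun T' h x e => (congrArg (fun a => evv a T' h (B.πQ T' x)) hz').trans (hχ T' h x e)⟩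

/-- The cycle of an extension to the fibre. -/
def cyc {T : C} {p : P.obj.obj (op T)} (F : FibExt B p (iota0 G)) :
    (extSc Q G).cycles.obj.obj (op T) := (exists_cycle F).choose

theorem cyc_spec {T : C} {p : P.obj.obj (op T)} (F : FibExt B p (iota0 G))
    (T' : C) (h : T' ⟶ T) (x : B.E.obj.obj (op T')) (e : B.πP T' x = P.obj.map h.op p) :
    evv ((extSc Q G).iCycles.hom.app (op T) (cyc F)) T' h (B.πQ T' x) =
      ((injectiveResolution G).cocomplex.d 0 1).hom.app (op T') (F.ψ T' h x e) :=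
  (exists_cycle F).choose_spec T' h x e

theorem iCycles_toCycles {T : C} (θ : (HomSh.homSh J Q ((injectiveResolution G).cocomplex.X 0)).obj.obj (op T))
    (T' : C) (h : T' ⟶ T) (q : Q.obj.obj (op T')) :
    evv ((extSc Q G).iCycles.hom.app (op T) ((extSc Q G).toCycles.hom.app (op T) θ)) T' h q =
      ((injectiveResolution G).cocomplex.d 0 1).hom.app (op T') (evv θ T' h q) :=
  (congrArg (fun a => evv a T' h q)
    (ConcreteCategory.congr_hom (congr_arg (fun m : (extSc Q G).X₁ ⟶ (extSc Q G).X₂ => m.hom.app (op T))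
      (extSc Q G).toCycles_i) θ)).trans (evv_homShMap _ θ T' h q)

theorem cls_eq_of_diff {T : C} {a b : (extSc Q G).cycles.obj.obj (op T)}
    (θ : (HomSh.homSh J Q ((injectiveResolution G).cocomplex.X 0)).obj.obj (op T))
    (e : (extSc Q G).iCycles.hom.app (op T) a = (extSc Q G).iCycles.hom.app (op T) (b + (extSc Q G).toCycles.hom.app (op T) θ)) :
    (extSc Q G).homologyπ.hom.app (op T) a = (extSc Q G).homologyπ.hom.app (op T) b := by
  rw [section_injective _ T e, map_add, app_zero_of_comp_eq_zero (extSc Q G).toCycles_comp_homologyπ, add_zero]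

theorem cls_indep {T : C} {p : P.obj.obj (op T)} (F F' : FibExt B p (iota0 G)) :
    (extSc Q G).homologyπ.hom.app (op T) (cyc F) = (extSc Q G).homologyπ.hom.app (op T) (cyc F') := by
  obtain ⟨θ, hθ⟩ := exists_desc B p (fun T' h x e => F.ψ T' h x e - F'.ψ T' h x e)
    (fun k h x e => (map_sub _ _ _).trans (congrArg₂ (· - ·) (F.ψ_map k h x e) (F'.ψ_map k h x e)))
    (fun T' h g x e => by rw [F.ψ_act, F'.ψ_act]; exact add_sub_add_left_eq_sub _ _ _)
    (fun T' h x y e e' => by rw [F.ψ_add, F'.ψ_add]; exact add_sub_add_comm _ _ _ _)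
  refine cls_eq_of_diff θ (hom_ext_fib B p fun T' h x e => ?_)
  rw [map_add]
  refine (cyc_spec F T' h x e).trans (Eq.symm ?_)
  refine (evv_add' _ _ T' h (B.πQ T' x)).trans ?_
  rw [cyc_spec F' T' h x e, iCycles_toCycles θ, hθ T' h x e, map_sub]
  abel

variable (B)

/-- The obstruction at a point. -/
def obst (T : C) (p : P.obj.obj (op T)) : (extSc Q G).homology.obj.obj (op T) :=
  (extSc Q G).homologyπ.hom.app (op T) (cyc (exists_fibExt B p (iota0 G)).some)

theorem obst_map {T T₁ : C} (k : T₁ ⟶ T) (p : P.obj.obj (op T)) :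
    obst B T₁ (P.obj.map k.op p) = (extSc Q G).homology.obj.map k.op (obst B T p) := by
  refine (cls_indep _ ((exists_fibExt B p (iota0 G)).some.res k)).trans ?_
  refine Eq.trans ?_ (app_map (extSc Q G).homologyπ k _).symm
  refine congrArg _ (section_injective (extSc Q G).iCycles T₁ ?_)
  rw [← app_map (extSc Q G).iCycles k]
  refine hom_ext_fib B (P.obj.map k.op p) fun T' h x e => ?_
  refine (cyc_spec _ T' h x e).trans (Eq.symm ?_)
  refine (evv_map_section k _ T' h _).trans ?_
  exact cyc_spec _ T' (h ≫ k) x (by rw [e, ab_map_map])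

theorem obst_add (T : C) (p p' : P.obj.obj (op T)) : obst B T (p + p') = obst B T p + obst B T p' := by
  unfold obst
  set F := (exists_fibExt B p (iota0 G)).some
  set F' := (exists_fibExt B p' (iota0 G)).some
  set F'' := (exists_fibExt B (p + p') (iota0 G)).some
  have hsum : ∀ (T' : C) (h : T' ⟶ T) (x y : B.E.obj.obj (op T')) (ex : B.πP T' x = P.obj.map h.op p)
      (ey : B.πP T' y = P.obj.map h.op p') (hq : B.πQ T' x = B.πQ T' y),
      B.πP T' (B.add₁ T' x y hq) = P.obj.map h.op (p + p') := fun T' h x y ex ey hq => by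
    rw [B.πP_add₁, ex, ey, map_add]
  obtain ⟨θ, hθ⟩ := exists_hom_of_rel (Q := Q) (N := (injectiveResolution G).cocomplex.X 0) (T := T)
    (fun T' h q v => ∃ (x y : B.E.obj.obj (op T')) (ex : B.πP T' x = P.obj.map h.op p)
      (ey : B.πP T' y = P.obj.map h.op p') (hx : B.πQ T' x = q) (hy : B.πQ T' y = q),
      v = F''.ψ T' h (B.add₁ T' x y (hx.trans hy.symm)) (hsum T' h x y ex ey _) - F.ψ T' h x ex - F'.ψ T' h y ey)
    (fun {T' T''} k h q v hv => by
      obtain ⟨x, y, ex, ey, hx, hy, rfl⟩ := hv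
      refine ⟨B.E.obj.map k.op x, B.E.obj.map k.op y, by rw [B.πP_map, ex, ab_map_map],
        by rw [B.πP_map, ey, ab_map_map], by rw [B.πQ_map, hx], by rw [B.πQ_map, hy], ?_⟩
      rw [map_sub, map_sub, F''.ψ_map, F.ψ_map, F'.ψ_map]
      exact congrArg (· - _) (congrArg (· - _) (F''.congr T'' rfl (B.add₁_map k x y _) _)))
    (fun T' h q v w hv hw => by
      obtain ⟨x, y, ex, ey, hx, hy, rfl⟩ := hv
      obtain ⟨x', y', ex', ey', hx', hy', rfl⟩ := hw
      obtain ⟨g, rfl⟩ := exists_act B T' x x' (ex.trans ex'.symm) (hx.trans hx'.symm)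
      obtain ⟨g', rfl⟩ := exists_act B T' y y' (ey.trans ey'.symm) (hy.trans hy'.symm)
      have h0 : B.add₁ T' (B.act T' g x) (B.act T' g' y) (hx'.trans hy'.symm) =
          B.act T' (g + g') (B.add₁ T' x y (hx.trans hy.symm)) := by
        rw [B.add₁_act T' g x (B.act T' g' y) (by rw [B.πQ_act, hx, hy]),
          add₁_act_right B T' g' x y (hx.trans hy.symm), B.add_act]
      rw [F''.congr T' rfl h0, F''.ψ_act T' h (g + g') _ (hsum T' h x y ex ey _), F.ψ_act T' h g x ex,
        F'.ψ_act T' h g' y ey, map_add]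
      abel)
    (fun T' h q => by
      obtain ⟨R, hR, hl⟩ := B.locallySurjective T' (P.obj.map h.op p) q
      obtain ⟨R', hR', hl'⟩ := B.locallySurjective T' (P.obj.map h.op p') q
      refine ⟨R ⊓ R', J.intersection_covering hR hR', fun T'' k hk => ?_⟩
      obtain ⟨x, hxP, hxQ⟩ := hl k hk.1
      obtain ⟨y, hyP, hyQ⟩ := hl' k hk.2
      exact ⟨_, x, y, by rw [hxP, ab_map_map], by rw [hyP, ab_map_map], hxQ, hyQ, rfl⟩)
    (fun T' h q q' v v' hv hv' => by
      obtain ⟨x, y, ex, ey, hx, hy, rfl⟩ := hv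
      obtain ⟨x', y', ex', ey', hx', hy', rfl⟩ := hv'
      refine ⟨B.add₂ T' x x' (ex.trans ex'.symm), B.add₂ T' y y' (ey.trans ey'.symm),
        (B.πP_add₂ T' x x' _).trans ex, (B.πP_add₂ T' y y' _).trans ey,
        by rw [B.πQ_add₂, hx, hx'], by rw [B.πQ_add₂, hy, hy'], ?_⟩
      rw [F''.congr T' rfl (B.compat T' x x' y y' _ _ (hx.trans hy.symm) (hx'.trans hy'.symm)),
        F''.ψ_add T' h _ _ (hsum T' h x y ex ey _) (hsum T' h x' y' ex' ey' _), F.ψ_add T' h x x' ex ex',
        F'.ψ_add T' h y y' ey ey']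
      abel)
  rw [← map_add]
  refine cls_eq_of_diff θ (hom_ext_evv fun T' h q => ?_)
  obtain ⟨R, hR, hl⟩ := B.locallySurjective T' (P.obj.map h.op p) q
  obtain ⟨R', hR', hl'⟩ := B.locallySurjective T' (P.obj.map h.op p') q
  refine ab_ext_of_cover _ (J.intersection_covering hR hR') fun T'' k hk => ?_
  obtain ⟨x, hxP, hxQ⟩ := hl k hk.1
  obtain ⟨y, hyP, hyQ⟩ := hl' k hk.2
  have ex : B.πP T'' x = P.obj.map (k ≫ h).op p := by rw [hxP, ab_map_map]
  have ey : B.πP T'' y = P.obj.map (k ≫ h).op p' := by rw [hyP, ab_map_map]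
  have hxy : B.πQ T'' x = B.πQ T'' y := hxQ.trans hyQ.symm
  rw [evv_map, evv_map, map_add, map_add]
  refine Eq.trans ?_ ((evv_add' _ _ T'' (k ≫ h) _).trans (congrArg (· + _) (evv_add' _ _ T'' (k ≫ h) _))).symm
  rw [iCycles_toCycles θ, ← hxQ, cyc_spec F T'' (k ≫ h) x ex]
  conv_rhs => rw [hxy, cyc_spec F' T'' (k ≫ h) y ey, ← hxy]
  rw [hθ T'' (k ≫ h) (B.πQ T'' x) _ ⟨x, y, ex, ey, rfl, hxy.symm, rfl⟩, map_sub, map_sub]
  refine (congrArg (evv _ T'' (k ≫ h)) (B.πQ_add₁ T'' x y hxy).symm).trans ?_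
  rw [cyc_spec F'' T'' (k ≫ h) _ (hsum T'' (k ≫ h) x y ex ey hxy)]
  abel

/-- The obstruction homomorphism. -/
def obstHom : P ⟶ (extSc Q G).homology :=
  ObjectProperty.homMk
    { app := fun T => AddCommGrpCat.ofHom (AddMonoidHom.mk' (obst B T.unop) (obst_add B T.unop))
      naturality := fun T T' k => AddCommGrpCat.ext fun p => obst_map B k.unop p }

theorem exists_spl_of_obst_eq_zero (h0 : obstHom B = 0) (T : C) (p : P.obj.obj (op T)) :
    ∃ R ∈ J T, ∀ ⦃T₁ : C⦄ (k : T₁ ⟶ T), R k → ∃ s : Spl B T₁, s.p = P.obj.map k.op p := by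
  set F := (exists_fibExt B p (iota0 G)).some
  have hc : (extSc Q G).homologyπ.hom.app (op T) (cyc F) = 0 :=
    ConcreteCategory.congr_hom (congr_arg (fun m : P ⟶ (extSc Q G).homology => m.hom.app (op T)) h0) p
  let K : ShortComplex (Sheaf J AddCommGrpCat.{u + 1}) :=
    ShortComplex.mk (extSc Q G).toCycles (extSc Q G).homologyπ (extSc Q G).toCycles_comp_homologyπ
  have hK : K.Exact := ShortComplex.exact_of_g_is_cokernel K (extSc Q G).homologyIsCokernel
  refine ⟨_, HomShExact.imageSieve_mem_of_exact hK T (cyc F) hc, fun T₁ k hk => ?_⟩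
  obtain ⟨(θ : (HomSh.homSh J Q ((injectiveResolution G).cocomplex.X 0)).obj.obj (op T₁)), hθ⟩ := hk
  have hd : ∀ (T' : C) (h : T' ⟶ T₁) (x : B.E.obj.obj (op T')) (e : B.πP T' x = P.obj.map h.op (P.obj.map k.op p)),
      ((injectiveResolution G).cocomplex.d 0 1).hom.app (op T')
        ((F.res k).ψ T' h x e - evv θ T' h (B.πQ T' x)) = 0 := fun T' h x e => by
    rw [map_sub, ← iCycles_toCycles θ T' h]
    refine sub_eq_zero.2 ?_
    refine Eq.trans ?_ (congrArg (fun a => evv ((extSc Q G).iCycles.hom.app (op T₁) a) T' h (B.πQ T' x)) hθ).symm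
    rw [← app_map (extSc Q G).iCycles k]
    refine Eq.trans ?_ (evv_map_section k _ T' h _).symm
    exact (cyc_spec F T' (h ≫ k) x (by rw [e, ab_map_map])).symm
  let K0 : ShortComplex (Sheaf J AddCommGrpCat.{u + 1}) :=
    ShortComplex.mk (iota0 G) ((injectiveResolution G).cocomplex.d 0 1)
      (iota0_d G)
  have hK0 : K0.Exact := iota0_exact G
  haveI : Mono K0.f := mono_iota0
  choose ρ hρ using fun T' h x e => exists_res_section_of_exact hK0 (T := T') _ (hd T' h x e)
  have hinj : ∀ T' : C, Function.Injective ((iota0 G).hom.app (op T')) := fun T' =>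
    section_injective _ T'
  have hρmap : ∀ {T' T'' : C} (l : T'' ⟶ T') (h : T' ⟶ T₁) (x : B.E.obj.obj (op T'))
      (e : B.πP T' x = P.obj.map h.op (P.obj.map k.op p)),
      G.obj.map l.op (ρ T' h x e) = ρ T'' (l ≫ h) (B.E.obj.map l.op x) (by rw [B.πP_map, e, ab_map_map]) :=
    fun {T' T''} l h x e => hinj T'' <| by
      refine (app_map _ l _).symm.trans (Eq.trans ?_ (hρ T'' (l ≫ h) _ _).symm)
      refine (congrArg _ (hρ T' h x e)).trans ((map_sub _ _ _).trans ?_)
      rw [(F.res k).ψ_map, evv_map, B.πQ_map]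
  have hρact : ∀ (T' : C) (h : T' ⟶ T₁) (g : G.obj.obj (op T')) (x : B.E.obj.obj (op T'))
      (e : B.πP T' x = P.obj.map h.op (P.obj.map k.op p)),
      ρ T' h (B.act T' g x) ((B.πP_act T' g x).trans e) = g + ρ T' h x e := fun T' h g x e => hinj T' <| by
    refine (hρ T' h _ _).trans (Eq.trans ?_ ((map_add _ g _).trans (congrArg (fun a => (iota0 G).hom.app (op T') g + a) (hρ T' h x e))).symm)
    rw [(F.res k).ψ_act T' h g x e, B.πQ_act]
    exact add_sub_assoc _ _ _
  have hρadd : ∀ (T' : C) (h : T' ⟶ T₁) (x y : B.E.obj.obj (op T'))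
      (e : B.πP T' x = P.obj.map h.op (P.obj.map k.op p)) (e' : B.πP T' y = P.obj.map h.op (P.obj.map k.op p)),
      ρ T' h (B.add₂ T' x y (e.trans e'.symm)) ((B.πP_add₂ T' x y _).trans e) = ρ T' h x e + ρ T' h y e' :=
    fun T' h x y e e' => hinj T' <| by
      refine (hρ T' h _ _).trans (Eq.trans ?_ ((map_add _ _ _).trans (congrArg₂ (· + ·) (hρ T' h x e) (hρ T' h y e'))).symm)
      rw [(F.res k).ψ_add T' h x y e e', B.πQ_add₂, evv_add]
      exact add_sub_add_comm _ _ _ _
  have hρc : ∀ {T' : C} {h h' : T' ⟶ T₁} (_ : h = h') {x x' : B.E.obj.obj (op T')} (_ : x = x')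
      (e : B.πP T' x = P.obj.map h.op (P.obj.map k.op p)) (e' : B.πP T' x' = P.obj.map h'.op (P.obj.map k.op p)),
      ρ T' h x e = ρ T' h' x' e' := by
    intro T' h h' hh x x' hx e e'
    subst hh; subst hx; rfl
  let IsVal : ∀ (T' : C), (T' ⟶ T₁) → Q.obj.obj (op T') → B.E.obj.obj (op T') → Prop := fun T' h q x =>
    ∃ e : B.πP T' x = P.obj.map h.op (P.obj.map k.op p), B.πQ T' x = q ∧ ρ T' h x e = 0
  have huniq : ∀ (T' : C) (h : T' ⟶ T₁) (q : Q.obj.obj (op T')) (x y : B.E.obj.obj (op T')),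
      IsVal T' h q x → IsVal T' h q y → x = y := by
    intro T' h q x y hx hy
    obtain ⟨e, hq, h0'⟩ := hx
    obtain ⟨e', hq', h0''⟩ := hy
    obtain ⟨g, rfl⟩ := exists_act B T' x y (e.trans e'.symm) (hq.trans hq'.symm)
    rw [hρc rfl rfl e' ((B.πP_act T' g x).trans e), hρact T' h g x e, h0', add_zero] at h0''
    rw [h0'']
    exact (B.zero_act T' x).symm
  have hres : ∀ {T' T'' : C} (l : T'' ⟶ T') (h : T' ⟶ T₁) (q : Q.obj.obj (op T')) (x : B.E.obj.obj (op T')),
      IsVal T' h q x → IsVal T'' (l ≫ h) (Q.obj.map l.op q) (B.E.obj.map l.op x) := fun {T' T''} l h q x hx => by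
    obtain ⟨e, hq, h0'⟩ := hx
    exact ⟨by rw [B.πP_map, e, ab_map_map], by rw [B.πQ_map, hq],
      (hρmap l h x e).symm.trans ((congrArg _ h0').trans (map_zero _))⟩
  have hex : ∀ (T' : C) (h : T' ⟶ T₁) (q : Q.obj.obj (op T')), ∃ x, IsVal T' h q x := by
    intro T' h q
    obtain ⟨R, hR, hl⟩ := B.locallySurjective T' (P.obj.map h.op (P.obj.map k.op p)) q
    obtain ⟨x, hx⟩ := exists_glue B.E (fun T'' l x => IsVal T'' (l ≫ h) (Q.obj.map l.op q) x)
      (fun {U V} m l x hx => by
        show IsVal V ((m ≫ l) ≫ h) (Q.obj.map (m ≫ l).op q) (B.E.obj.map m.op x)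
        rw [Category.assoc, ← ab_map_map]
        exact hres m (l ≫ h) _ x hx)
      (fun T'' l x y hx hy => huniq _ _ _ x y hx hy) hR
      (fun T'' l hl' => by
        obtain ⟨x, hxP, hxQ⟩ := hl l hl'
        have e : B.πP T'' x = P.obj.map (l ≫ h).op (P.obj.map k.op p) := by rw [hxP, ab_map_map]
        refine ⟨B.act T'' (-ρ T'' (l ≫ h) x e) x, (B.πP_act T'' _ x).trans e, (B.πQ_act T'' _ x).trans hxQ, ?_⟩
        rw [hρact T'' (l ≫ h) _ x e, neg_add_cancel])
    have eP : B.πP T' x = P.obj.map h.op (P.obj.map k.op p) := ab_ext_of_cover P hR fun T'' l hl' => by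
      rw [← B.πP_map, ab_map_map P h l]
      exact (hx l hl').1
    refine ⟨x, eP, ab_ext_of_cover Q hR fun T'' l hl' => by rw [← B.πQ_map]; exact (hx l hl').2.1,
      ab_ext_of_cover G hR fun T'' l hl' => ?_⟩
    rw [hρmap l h x eP, map_zero]
    exact (hx l hl').2.2
  choose σ hσ using hex
  refine ⟨{
    p := P.obj.map k.op p
    σ := σ
    πP_σ := fun T' h q => (hσ T' h q).1
    πQ_σ := fun T' h q => (hσ T' h q).2.1
    σ_map := fun l h q => huniq _ _ _ _ _ (hres l h q _ (hσ _ h q)) (hσ _ _ _)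
    σ_add := fun T' h q q' => huniq _ _ _ _ _ (hσ _ _ _) ?_ }, rfl⟩
  obtain ⟨e, hq, h0'⟩ := hσ T' h q
  obtain ⟨e', hq', h0''⟩ := hσ T' h q'
  exact ⟨(B.πP_add₂ T' _ _ _).trans e, by rw [B.πQ_add₂, hq, hq'], by rw [hρadd T' h _ _ e e', h0', h0'', add_zero]⟩

theorem mono_splIncl : Mono (splIncl B) := by
  refine (sheafToPresheaf _ _).mono_of_mono_map (@NatTrans.mono_of_mono_app _ _ _ _ _ _ _ fun T => ?_)
  rw [AddCommGrpCat.mono_iff_injective]
  exact fun φ ψ h => homSpl_injective B (T := T.unop) h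

theorem exact_spl : (ShortComplex.mk (splIncl B) (splProj B) (splIncl_proj B)).Exact := by
  refine ShortComplex.exact_of_f_is_kernel _ ?_
  refine @KernelFork.IsLimit.ofι' _ _ _ _ _ _ _ _ (splIncl_proj B) (fun {A} a ha => ?_) (mono_splIncl B)
  choose n hn using fun (T : Cᵒᵖ) (x : A.obj.obj T) => exists_homSpl B (T := T.unop) (a.hom.app T x)
    (ConcreteCategory.congr_hom (congr_arg (fun m : A ⟶ P => m.hom.app T) ha) x)
  refine ⟨⟨{
      app := fun T => AddCommGrpCat.ofHom (AddMonoidHom.mk' (n T) fun x y => homSpl_injective B (T := T.unop) <| by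
        refine (hn T (x + y)).trans ((map_add (a.hom.app T).hom x y).trans ?_)
        rw [← hn T x, ← hn T y]
        exact (map_add ((splIncl B).hom.app T).hom _ _).symm)
      naturality := fun T T' t => AddCommGrpCat.ext fun x => homSpl_injective B (T := T'.unop) <| by
        refine (hn T' _).trans ((ConcreteCategory.congr_hom (a.hom.naturality t) x).trans ?_)
        refine (congrArg ((splPre B).map t) (hn T x).symm).trans ?_
        exact (ConcreteCategory.congr_hom ((splIncl B).hom.naturality t) (n T x)).symm }⟩, ?_⟩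
  exact Sheaf.hom_ext (NatTrans.ext (funext fun T => AddCommGrpCat.ext fun x => hn T x))

theorem epi_splProj (h₂ : ∀ φ : P ⟶ (HomSh.extSh J Q 1).obj G, φ = 0) : Epi (splProj B) := by
  have h0 : obstHom B = 0 := hom_extSc_eq_zero h₂ _
  haveI : Sheaf.IsLocallySurjective (splProj B) := ⟨fun {T} p => by
    obtain ⟨R, hR, hl⟩ := exists_spl_of_obst_eq_zero B h0 T p
    exact J.superset_covering (fun T₁ k hk => by
      obtain ⟨s, hs⟩ := hl k hk
      exact ⟨s, hs⟩) hR⟩
  exact (Sheaf.isLocallySurjective_iff_epi' (A := AddCommGrpCat.{u + 1}) _).1 inferInstance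

/-- A section of the projection of the sheaf of local splittings is a splitting. -/
def splittingOfSection (s : P ⟶ splSh B) (hs : s ≫ splProj B = 𝟙 P) : Biext.Splitting J B where
  σ T p q := (show Spl B T from s.hom.app (op T) p).σ T (𝟙 T) q
  πP_σ T p q := by
    refine ((show Spl B T from s.hom.app (op T) p).πP_σ T (𝟙 T) q).trans ?_
    rw [ab_map_id]
    exact ConcreteCategory.congr_hom (congr_arg (fun m : P ⟶ P => m.hom.app (op T)) hs) p
  πQ_σ T p q := (show Spl B T from s.hom.app (op T) p).πQ_σ T (𝟙 T) q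
  σ_map {T T'} f p q := by
    refine ((show Spl B T from s.hom.app (op T) p).σ_map f (𝟙 T) q).trans ?_
    rw [show (show Spl B T' from s.hom.app (op T') (P.obj.map f.op p)) =
      Spl.res f (show Spl B T from s.hom.app (op T) p) from
      ConcreteCategory.congr_hom (s.hom.naturality f.op) p]
    show _ = (show Spl B T from s.hom.app (op T) p).σ T' (𝟙 T' ≫ f) (Q.obj.map f.op q)
    rw [Category.id_comp, Category.comp_id]
  σ_add₁ T p p' q := congrArg (fun a : Spl B T => a.σ T (𝟙 T) q) (map_add (s.hom.app (op T)).hom p p')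
  σ_add₂ T p q q' := (show Spl B T from s.hom.app (op T) p).σ_add T (𝟙 T) q q'

/-- Biextensions are trivial when the extensions by the internal Hom and the homomorphisms to the first local Ext
sheaf vanish. -/
theorem isTrivial_of_vanishing [HasExt.{w} (Sheaf J AddCommGrpCat.{u + 1})]
    (h₁ : ∀ e : Abelian.Ext P (HomSh.homSh J Q G) 1, e = 0)
    (h₂ : ∀ φ : P ⟶ (HomSh.extSh J Q 1).obj G, φ = 0) : Biext.IsTrivial J B := by
  have hS : (ShortComplex.mk (splIncl B) (splProj B) (splIncl_proj B)).ShortExact :=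
    ShortComplex.ShortExact.mk' (exact_spl B) (mono_splIncl B) (epi_splProj B h₂)
  obtain ⟨x, hx⟩ := Abelian.Ext.covariant_sequence_exact₃ P hS (Abelian.Ext.mk₀ (𝟙 P)) (zero_add 1) (h₁ _)
  refine ⟨splittingOfSection B (Abelian.Ext.homEquiv₀ x) ?_⟩
  apply (Abelian.Ext.mk₀_bijective _ _).1
  rw [← Abelian.Ext.mk₀_comp_mk₀, Abelian.Ext.mk₀_homEquiv₀_apply]
  exact hx

end Resolution

end Groth.Agent.BiextLib
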